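import Mathlib.AlgebraicGeometry.AffineSpace
import Mathlib.AlgebraicGeometry.Morphisms.Smooth
import Mathlib.AlgebraicGeometry.Morphisms.Etale
import Mathlib.RingTheory.RingHom.StandardSmooth

/-!
# Local structure of smooth morphisms

`exists_etale_affineSpace` : a smooth morphism is, locally on source and target, an étale morphism
to an affine space.
-/

set_option autoImplicit false

universe u

open CategoryTheory CategoryTheory.Limits AlgebraicGeometry

namespace Groth.Agent.UnramB.SmoothLoc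

open scoped AffineSpace

theorem isIso_affineSpace_map {S T : Scheme.{u}} (n : Type u) (f : S ⟶ T) [IsIso f] :
    IsIso (AffineSpace.map n f) :=
  ⟨AffineSpace.map n (inv f), by
    rw [← AffineSpace.map_comp, IsIso.hom_inv_id, AffineSpace.map_id], by
    rw [← AffineSpace.map_comp, IsIso.inv_hom_id, AffineSpace.map_id]⟩

/-- Ring-level form: a standard smooth ring map factors through an étale algebra over a
polynomial ring in a universe-`u` set of variables. -/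
theorem exists_etale_mvPolynomial_ulift {A B : Type u} [CommRing A] [CommRing B] {φ : A →+* B}
    (hs : φ.IsStandardSmooth) :
    ∃ (n : ℕ) (g : MvPolynomial (ULift.{u} (Fin n)) A →+* B),
      g.comp MvPolynomial.C = φ ∧ g.Etale := by
  obtain ⟨n, g₀, hg₀, hget⟩ := hs.exists_etale_mvPolynomial
  let ρ : MvPolynomial (ULift.{u} (Fin n)) A ≃ₐ[A] MvPolynomial (Fin n) A :=
    MvPolynomial.renameEquiv _ Equiv.ulift
  refine ⟨n, g₀.comp (ρ : MvPolynomial (ULift.{u} (Fin n)) A →+* MvPolynomial (Fin n) A), ?_, ?_⟩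
  · rw [← hg₀]
    ext a
    simp [ρ]
  · exact RingHom.Etale.stableUnderComposition _ _ (RingHom.Etale.of_bijective ρ.bijective) hget

/-- EGA IV 17.11.4 / Stacks 054L: locally on source and target, a smooth morphism factors as an
étale morphism to an affine space followed by the projection. Here the affine opens `U ≤ f ⁻¹ᵁ V`
are given, with `Γ(S, V) ⟶ Γ(X, U)` standard smooth. -/
theorem exists_etale_affineSpace_of_isStandardSmooth {X S : Scheme.{u}} (f : X ⟶ S)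
    {U : X.Opens} {V : S.Opens} (hU : IsAffineOpen U) (hV : IsAffineOpen V) (e : U ≤ f ⁻¹ᵁ V)
    (hs : (f.appLE V U e).hom.IsStandardSmooth) :
    ∃ (n : ℕ) (g : (U : Scheme.{u}) ⟶ 𝔸(ULift.{u} (Fin n); (V : Scheme.{u}))),
      Etale g ∧
        g ≫ (𝔸(ULift.{u} (Fin n); (V : Scheme.{u})) ↘ (V : Scheme.{u})) = f.resLE V U e := by
  obtain ⟨n, g₁, hg₁, hg₁et⟩ := exists_etale_mvPolynomial_ulift hs
  have : Etale (Spec.map (CommRingCat.ofHom g₁)) :=
    (HasRingHomProperty.Spec_iff (P := @Etale)).mpr hg₁et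
  have := isIso_affineSpace_map (ULift.{u} (Fin n)) hV.isoSpec.inv
  refine ⟨n, hU.isoSpec.hom ≫ Spec.map (CommRingCat.ofHom g₁) ≫
      (AffineSpace.SpecIso (ULift.{u} (Fin n)) Γ(S, V)).inv ≫
        AffineSpace.map _ hV.isoSpec.inv, inferInstance, ?_⟩
  simp only [Category.assoc, AffineSpace.map_over]
  rw [AffineSpace.SpecIso_inv_over_assoc, ← Spec.map_comp_assoc, ← CommRingCat.ofHom_comp, hg₁,
    CommRingCat.ofHom_hom, IsAffineOpen.isoSpec_hom, Scheme.Opens.toSpecΓ_SpecMap_appLE_assoc,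
    IsAffineOpen.toSpecΓ_isoSpec_inv, Category.comp_id]

/-- EGA IV 17.11.4 / Stacks 054L: locally on source and target, a smooth morphism factors as an
étale morphism to an affine space followed by the projection. -/
theorem exists_etale_affineSpace {X S : Scheme.{u}} (f : X ⟶ S) [Smooth f] (x : X) :
    ∃ (U : X.Opens) (V : S.Opens) (e : U ≤ f ⁻¹ᵁ V) (n : ℕ)
      (g : (U : Scheme.{u}) ⟶ 𝔸(ULift.{u} (Fin n); (V : Scheme.{u}))),
      x ∈ U ∧ IsAffineOpen U ∧ IsAffineOpen V ∧ Etale g ∧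
        g ≫ (𝔸(ULift.{u} (Fin n); (V : Scheme.{u})) ↘ (V : Scheme.{u})) = f.resLE V U e := by
  obtain ⟨V, hV, U, hU, hxU, e, hs⟩ := Smooth.exists_isStandardSmooth f x
  obtain ⟨n, g, hg, hgf⟩ := exists_etale_affineSpace_of_isStandardSmooth f hU hV e hs
  exact ⟨U, V, e, n, g, hxU, hU, hV, hg, hgf⟩

/-- Variant with `U` in a prescribed neighbourhood of `x` and `V` in a prescribed
neighbourhood of `f x`. -/
theorem exists_etale_affineSpace_le {X S : Scheme.{u}} (f : X ⟶ S) [Smooth f] (x : X)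
    (U₀ : X.Opens) (hx : x ∈ U₀) (V₀ : S.Opens) (hy : f x ∈ V₀) :
    ∃ (U : X.Opens) (V : S.Opens) (e : U ≤ f ⁻¹ᵁ V) (n : ℕ)
      (g : (U : Scheme.{u}) ⟶ 𝔸(ULift.{u} (Fin n); (V : Scheme.{u}))),
      x ∈ U ∧ U ≤ U₀ ∧ V ≤ V₀ ∧ IsAffineOpen U ∧ IsAffineOpen V ∧ Etale g ∧
        g ≫ (𝔸(ULift.{u} (Fin n); (V : Scheme.{u})) ↘ (V : Scheme.{u})) = f.resLE V U e := by
  have hW : x ∈ U₀ ⊓ f ⁻¹ᵁ V₀ := ⟨hx, hy⟩
  let W : X.Opens := U₀ ⊓ f ⁻¹ᵁ V₀
  have hWV : W ≤ f ⁻¹ᵁ V₀ := inf_le_right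
  have : Smooth (f.resLE V₀ W hWV) := inferInstance
  obtain ⟨V, hV, U, hU, hxU, e, hs⟩ :=
    Smooth.exists_isStandardSmooth (f.resLE V₀ W hWV) ⟨x, hW⟩
  have hU' : IsAffineOpen (W.ι ''ᵁ U) := hU.image_of_isOpenImmersion _
  have hV' : IsAffineOpen (V₀.ι ''ᵁ V) := hV.image_of_isOpenImmersion _
  have e' : W.ι ''ᵁ U ≤ f ⁻¹ᵁ (V₀.ι ''ᵁ V) := by
    rintro _ ⟨u, hu, rfl⟩
    exact ⟨f.resLE V₀ W hWV u, e hu, Scheme.Hom.coe_resLE_apply f hWV u⟩
  have hs' : (f.appLE (V₀.ι ''ᵁ V) (W.ι ''ᵁ U) e').hom.IsStandardSmooth := by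
    rw [← Scheme.Hom.resLE_appLE f hWV V U e]
    exact hs
  obtain ⟨n, g, hg, hgf⟩ := exists_etale_affineSpace_of_isStandardSmooth f hU' hV' e' hs'
  refine ⟨_, _, e', n, g, ⟨⟨x, hW⟩, hxU, rfl⟩, ?_, ?_, hU', hV', hg, hgf⟩
  · rintro _ ⟨u, hu, rfl⟩
    exact u.2.1
  · rintro _ ⟨u, hu, rfl⟩
    exact u.2

end Groth.Agent.UnramB.SmoothLoc
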