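import Groth.Agent.Flat2B.WeakAss
import Groth.Agent.Flat2A.FiberEquiv
import Groth.Agent.Ega43.FpModModel
import Mathlib.RingTheory.LocalRing.Module
import Mathlib.RingTheory.Localization.BaseChange

/-!
# Weakly associated primes of `N ⊗ M`, `N` flat at `q` over the base
-/

set_option autoImplicit false
universe u v w

namespace Groth.Agent.UnramB.WeakAssTensor

open TensorProduct

section WA

variable {S : Type u} [CommRing S] {X : Type v} {Y : Type w} [AddCommGroup X] [Module S X] [AddCommGroup Y] [Module S Y]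

/-- the prime `q` is minimal over the annihilator of `x`, elementwise. -/
def IsWA (q : Ideal S) (x : X) : Prop :=
  (∀ a : S, a • x = 0 → a ∈ q) ∧ ∀ f ∈ q, ∃ n : ℕ, ∃ a : S, a ∉ q ∧ (a * f ^ n) • x = 0

theorem mem_weakAss_iff (q : Ideal S) [q.IsPrime] : q ∈ FlatCA.weakAss S X ↔ ∃ x : X, IsWA q x :=
  Flat2B.WeakAss.mem_weakAss_iff q

theorem IsWA.smul {q : Ideal S} [hq : q.IsPrime] {x : X} (h : IsWA q x) {s : S} (hs : s ∉ q) : IsWA q (s • x) := by
  refine ⟨fun a ha => ?_, fun f hf => ?_⟩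
  · rw [smul_smul] at ha
    exact (hq.mem_or_mem (h.1 _ ha)).resolve_right hs
  · obtain ⟨n, a, ha, h1⟩ := h.2 f hf
    exact ⟨n, a, ha, by rw [smul_comm, h1, smul_zero]⟩

theorem IsWA.ne_zero {q : Ideal S} [hq : q.IsPrime] {x : X} (h : IsWA q x) : x ≠ 0 := by
  rintro rfl
  exact hq.ne_top ((Ideal.eq_top_iff_one q).mpr (h.1 1 (smul_zero _)))

theorem isWA_map_iff {q : Ideal S} [hq : q.IsPrime] (φ : X →ₗ[S] Y)
    (hφ : ∀ x, φ x = 0 → ∃ s ∉ q, s • x = 0) (x : X) : IsWA q (φ x) ↔ IsWA q x := by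
  constructor
  · intro h
    refine ⟨fun a ha => h.1 a (by rw [← map_smul, ha, map_zero]), fun f hf => ?_⟩
    obtain ⟨n, a, ha, h1⟩ := h.2 f hf
    rw [← map_smul] at h1
    obtain ⟨s, hs, h2⟩ := hφ _ h1
    exact ⟨n, s * a, fun h => (hq.mem_or_mem h).elim hs ha, by rw [mul_assoc, mul_smul, h2]⟩
  · intro h
    refine ⟨fun a ha => ?_, fun f hf => ?_⟩
    · rw [← map_smul] at ha
      obtain ⟨s, hs, h2⟩ := hφ _ ha
      rw [smul_smul] at h2
      exact (hq.mem_or_mem (h.1 _ h2)).resolve_left hs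
    · obtain ⟨n, a, ha, h1⟩ := h.2 f hf
      exact ⟨n, a, ha, by rw [← map_smul, h1, map_zero]⟩

/-- uniform killing -/
theorem exists_uniform_finset {q : Ideal S} [hq : q.IsPrime] {ι : Type*} (T : Finset ι) (v : ι → X)
    (h : ∀ t ∈ T, ∃ s ∉ q, s • v t = 0) : ∃ s ∉ q, ∀ t ∈ T, s • v t = 0 := by
  classical
  induction T using Finset.induction_on with
  | empty => exact ⟨1, fun h => hq.ne_top ((Ideal.eq_top_iff_one q).mpr h), by simp⟩
  | insert a T ha ih =>
    obtain ⟨s, hs, h1⟩ := ih (fun t ht => h t (Finset.mem_insert_of_mem ht))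
    obtain ⟨s', hs', h2⟩ := h a (Finset.mem_insert_self _ _)
    refine ⟨s * s', fun h => (hq.mem_or_mem h).elim hs hs', fun t ht => ?_⟩
    rcases Finset.mem_insert.mp ht with rfl | ht
    · rw [mul_smul, h2, smul_zero]
    · rw [mul_comm, mul_smul, h1 t ht, smul_zero]

/-- On a module which is Noetherian over some overring, the `q`-null elements are killed by one element outside
of `q`. -/
theorem exists_uniform {T : Type*} [CommRing T] [Module T X] [IsNoetherian T X]
    (hT : ∀ s : S, ∃ t : T, ∀ x : X, s • x = t • x) (q : Ideal S) [hq : q.IsPrime] :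
    ∃ g ∉ q, ∀ x : X, ∀ s ∉ q, s • x = 0 → g • x = 0 := by
  classical
  have hcomm : ∀ (s : S) (t : T) (x : X), s • t • x = t • s • x := by
    intro s t x
    obtain ⟨t', ht'⟩ := hT s
    rw [ht', ht', smul_comm]
  let Z : Submodule T X :=
    { carrier := {x | ∃ s ∉ q, s • x = 0}
      zero_mem' := ⟨1, fun h => hq.ne_top ((Ideal.eq_top_iff_one q).mpr h), by simp⟩
      add_mem' := by
        rintro x y ⟨s, hs, h1⟩ ⟨s', hs', h2⟩
        refine ⟨s * s', fun h => (hq.mem_or_mem h).elim hs hs', ?_⟩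
        rw [smul_add, mul_smul, mul_smul, h2, smul_zero, add_zero, smul_comm, h1, smul_zero]
      smul_mem' := by
        rintro t x ⟨s, hs, h1⟩
        exact ⟨s, hs, by rw [hcomm, h1, smul_zero]⟩ }
  obtain ⟨G, hG⟩ := (isNoetherian_def.mp ‹IsNoetherian T X›) Z
  obtain ⟨g, hg, h1⟩ := exists_uniform_finset (q := q) G (fun x : X => x) (fun t ht => by
    have : t ∈ Z := hG ▸ Submodule.subset_span ht
    exact this)
  refine ⟨g, hg, fun x s hs hx => ?_⟩
  have hxZ : x ∈ Z := ⟨s, hs, hx⟩
  rw [← hG] at hxZ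
  clear hx hs
  induction hxZ using Submodule.span_induction with
  | mem x hx => exact h1 x hx
  | zero => exact smul_zero _
  | add x y _ _ hx hy => rw [smul_add, hx, hy, add_zero]
  | smul a x _ hx => rw [hcomm, hx, smul_zero]

/-- With a Noetherian ring `R₀` in the background, `x` can be chosen killed by `q ∩ R₀`. -/
theorem exists_killed {R₀ : Type*} [CommRing R₀] [IsNoetherianRing R₀] (c : R₀ →+* S) (q : Ideal S) [hq : q.IsPrime]
    (x₀ : X) (hx₀ : IsWA q x₀) : ∃ x : X, IsWA q x ∧ ∀ a : R₀, c a ∈ q → c a • x = 0 := by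
  classical
  let I : X → Ideal R₀ := fun x =>
    { carrier := {a | ∃ s ∉ q, s • c a • x = 0}
      zero_mem' := ⟨1, fun h => hq.ne_top ((Ideal.eq_top_iff_one q).mpr h), by simp⟩
      add_mem' := by
        rintro a b ⟨s, hs, h1⟩ ⟨s', hs', h2⟩
        refine ⟨s * s', fun h => (hq.mem_or_mem h).elim hs hs', ?_⟩
        rw [map_add, add_smul, smul_add, mul_smul, mul_smul, h2, smul_zero, add_zero, smul_comm, h1, smul_zero]
      smul_mem' := by
        rintro t a ⟨s, hs, h1⟩
        refine ⟨s, hs, ?_⟩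
        rw [smul_eq_mul, map_mul, mul_smul, smul_comm, h1, smul_zero] }
  have hImem : ∀ x a, a ∈ I x ↔ ∃ s ∉ q, s • c a • x = 0 := fun x a => Iff.rfl
  obtain ⟨M, ⟨x, hx, rfl⟩, hmax⟩ := set_has_maximal_iff_noetherian.mpr (inferInstanceAs (IsNoetherian R₀ R₀))
    (I '' {x | IsWA q x}) ⟨_, x₀, hx₀, rfl⟩
  have hall : ∀ a : R₀, c a ∈ q → a ∈ I x := by
    intro a ha
    have hex : ∃ n : ℕ, ∃ s ∉ q, s • (c a) ^ n • x = 0 := by
      obtain ⟨n, s, hs, h⟩ := hx.2 _ ha
      exact ⟨n, s, hs, by rw [← mul_smul]; exact h⟩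
    let n := Nat.find hex
    have hn : ∃ s ∉ q, s • (c a) ^ n • x = 0 := Nat.find_spec hex
    have hn0 : n ≠ 0 := by
      intro h0
      rw [h0] at hn
      obtain ⟨s, hs, h⟩ := hn
      rw [pow_zero, one_smul] at h
      exact hs (hx.1 s h)
    obtain ⟨k, hk⟩ := Nat.exists_eq_succ_of_ne_zero hn0
    have hmin : ¬ ∃ s ∉ q, s • (c a) ^ k • x = 0 := Nat.find_min hex (by omega)
    push Not at hmin
    have hy : IsWA q ((c a) ^ k • x) := by
      refine ⟨fun b hb => ?_, fun f hf => ?_⟩
      · by_contra hbq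
        exact hmin b hbq hb
      · obtain ⟨m, s, hs, h⟩ := hx.2 f hf
        exact ⟨m, s, hs, by rw [smul_comm, h, smul_zero]⟩
    have hle : I x ≤ I ((c a) ^ k • x) := by
      intro b hb
      rw [hImem] at hb ⊢
      obtain ⟨s, hs, h⟩ := hb
      refine ⟨s, hs, ?_⟩
      rw [smul_comm (c b), smul_comm s, h, smul_zero]
    have heq : I x = I ((c a) ^ k • x) := by
      by_contra hne
      exact hmax _ ⟨_, hy, rfl⟩ (lt_of_le_of_ne hle hne)
    rw [heq, hImem]
    obtain ⟨s, hs, h⟩ := hn
    refine ⟨s, hs, ?_⟩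
    rw [hk, pow_succ', mul_smul] at h
    exact h
  obtain ⟨G, hG⟩ := (isNoetherianRing_iff_ideal_fg R₀).mp inferInstance (q.comap c)
  obtain ⟨s, hs, h⟩ := exists_uniform_finset (q := q) G (fun a => c a • x) (fun a ha => by
    have h1 : a ∈ q.comap c := hG ▸ Ideal.subset_span ha
    exact (hImem x a).mp (hall a h1))
  refine ⟨s • x, hx.smul hs, fun a ha => ?_⟩
  have ha' : a ∈ Ideal.span (G : Set R₀) := hG ▸ ha
  clear ha
  induction ha' using Submodule.span_induction with
  | mem x hx => rw [smul_comm]; exact h x hx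
  | zero => rw [map_zero, zero_smul]
  | add x y _ _ hx hy => rw [map_add, add_smul, hx, hy, add_zero]
  | smul a x _ hx => rw [smul_eq_mul, map_mul, mul_smul, hx, smul_zero]

end WA

section Flat

variable {R S : Type u} [CommRing R] [CommRing S] [Algebra R S]
  {N : Type u} [AddCommGroup N] [Module S N] [Module R N] [IsScalarTower R S N]
  (q : Ideal S) [q.IsPrime]

/-- exactness of `N ⊗ -` at `q`. -/
theorem exists_smul_eq_lTensor (hflat : FlatCA.FlatAt R q N) {A B C : Type u} [AddCommGroup A] [AddCommGroup B]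
    [AddCommGroup C] [Module R A] [Module R B] [Module R C] (f : A →ₗ[R] B) (h : B →ₗ[R] C)
    (hfh : Function.Exact f h) (x : N ⊗[R] B) (hx : h.lTensor N x = 0) :
    ∃ s ∉ q, ∃ y : N ⊗[R] A, s • x = f.lTensor N y := by
  have : Module.Flat R (LocalizedModule q.primeCompl N) := hflat
  let g : N →ₗ[S] LocalizedModule q.primeCompl N := LocalizedModule.mkLinearMap _ _
  have h1 : h.lTensor (LocalizedModule q.primeCompl N) (AlgebraTensorModule.rTensor R B g x) = 0 := by
    have : ∀ x : N ⊗[R] B, h.lTensor (LocalizedModule q.primeCompl N) (AlgebraTensorModule.rTensor R B g x) =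
        AlgebraTensorModule.rTensor R C g (h.lTensor N x) := by
      intro x
      induction x with
      | zero => simp
      | tmul x y => simp
      | add x y hx hy => simp only [map_add, hx, hy]
    rw [this, hx, map_zero]
  obtain ⟨y', hy'⟩ := (Module.Flat.lTensor_exact (LocalizedModule q.primeCompl N) hfh _).mp h1
  obtain ⟨⟨y, s⟩, hy⟩ := IsLocalizedModule.surj q.primeCompl (AlgebraTensorModule.rTensor R A g) y'
  replace hy : (s : S) • y' = AlgebraTensorModule.rTensor R A g y := hy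
  have h2 : AlgebraTensorModule.rTensor R B g ((s : S) • x) = AlgebraTensorModule.rTensor R B g (f.lTensor N y) := by
    have h3 : ∀ y : N ⊗[R] A, f.lTensor (LocalizedModule q.primeCompl N) (AlgebraTensorModule.rTensor R A g y) =
        AlgebraTensorModule.rTensor R B g (f.lTensor N y) := by
      intro x
      induction x with
      | zero => simp
      | tmul x y => simp
      | add x y hx hy => simp only [map_add, hx, hy]
    rw [← h3, ← hy, map_smul, ← hy']
    change (s : S) • (AlgebraTensorModule.lTensor S (LocalizedModule q.primeCompl N) f) y' =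
      (AlgebraTensorModule.lTensor S (LocalizedModule q.primeCompl N) f) ((s : S) • y')
    rw [map_smul]
  obtain ⟨t, ht⟩ := (IsLocalizedModule.eq_iff_exists q.primeCompl (AlgebraTensorModule.rTensor R B g)).mp h2
  refine ⟨t * s, fun h => ?_, (t : S) • y, ?_⟩
  · rcases Ideal.IsPrime.mem_or_mem ‹_› h with h | h
    · exact t.2 h
    · exact s.2 h
  · rw [mul_smul]
    change t • ((s : S) • x) = (AlgebraTensorModule.lTensor S N f) ((t : S) • y)
    rw [ht, map_smul]
    rfl

/-- injectivity of `N ⊗ -` at `q`. -/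
theorem exists_smul_eq_zero (hflat : FlatCA.FlatAt R q N) {B C : Type u} [AddCommGroup B]
    [AddCommGroup C] [Module R B] [Module R C] (h : B →ₗ[R] C)
    (hh : Function.Injective h) (x : N ⊗[R] B) (hx : h.lTensor N x = 0) :
    ∃ s ∉ q, s • x = 0 := by
  obtain ⟨s, hs, y, hy⟩ := exists_smul_eq_lTensor q hflat (0 : PUnit →ₗ[R] B) h
    ((LinearMap.exact_zero_iff_injective PUnit h).mpr hh) x hx
  refine ⟨s, hs, ?_⟩
  rw [hy, LinearMap.lTensor_zero, LinearMap.zero_apply]

end Flat

section Core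

variable {R L : Type u} [CommRing R] [CommRing L] [Algebra R L] {N : Type u} [AddCommGroup N] [Module R N]

/-- the coordinate map `N ⊗_R X → X` attached to a linear form on `L ⊗ N`. -/
noncomputable def coord (φ : L ⊗[R] N →ₗ[L] L) (X : Type u) [AddCommGroup X] [Module R X] [Module L X]
    [IsScalarTower R L X] : N ⊗[R] X →ₗ[R] X :=
  TensorProduct.lift
    { toFun := fun n => (φ (1 ⊗ₜ n)) • (LinearMap.id : X →ₗ[R] X)
      map_add' := fun a b => by rw [tmul_add, map_add, add_smul]
      map_smul' := fun r a => by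
        rw [tmul_smul, LinearMap.map_smul_of_tower, RingHom.id_apply, smul_assoc] }

@[simp]
theorem coord_tmul (φ : L ⊗[R] N →ₗ[L] L) (X : Type u) [AddCommGroup X] [Module R X] [Module L X]
    [IsScalarTower R L X] (n : N) (x : X) : coord φ X (n ⊗ₜ x) = φ (1 ⊗ₜ n) • x := rfl

theorem coord_lTensor (φ : L ⊗[R] N →ₗ[L] L) {X Y : Type u} [AddCommGroup X] [Module R X] [Module L X]
    [IsScalarTower R L X] [AddCommGroup Y] [Module R Y] [Module L Y]
    [IsScalarTower R L Y] (h : X →ₗ[L] Y) (x : N ⊗[R] X) :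
    coord φ Y ((h.restrictScalars R).lTensor N x) = h (coord φ X x) := by
  induction x with
  | zero => simp
  | tmul n x => simp
  | add x y hx hy => simp only [map_add, hx, hy]

/-- the coordinates attached to a basis are the coordinates of an isomorphism. -/
theorem exists_equiv {ι : Type u} (b : Module.Basis ι L (L ⊗[R] N)) (X : Type u) [AddCommGroup X] [Module R X] [Module L X]
    [IsScalarTower R L X] : ∃ e : N ⊗[R] X ≃ₗ[R] (ι →₀ X), ∀ x i, e x i = coord (b.coord i) X x := by
  classical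
  let e : N ⊗[R] X ≃ₗ[R] (ι →₀ X) := (TensorProduct.comm R N X) ≪≫ₗ
    (AlgebraTensorModule.cancelBaseChange R L L X N).symm.restrictScalars R ≪≫ₗ
    (TensorProduct.equivFinsuppOfBasisRight b (M := X)).restrictScalars R
  refine ⟨e, fun x i => ?_⟩
  induction x with
  | zero => simp
  | tmul n x => simp [e]
  | add x y hx hy => simp only [map_add, Finsupp.add_apply, hx, hy]

/-- Core lemma: if `L` is local and `L ⊗ N` is free over `L`, every nonzero element of `N ⊗ X`, `X` an `L`-module,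
specialises to a nonzero element of `N ⊗ κ`. -/
theorem exists_ne_zero [IsLocalRing L] [Module.Free L (L ⊗[R] N)] {κ : Type u} [Field κ] [Algebra R κ] [Algebra L κ]
    [IsScalarTower R L κ] (hκ : Function.Surjective (algebraMap L κ)) (X : Type u) [AddCommGroup X] [Module R X]
    [Module L X] [IsScalarTower R L X] (x : N ⊗[R] X) (hx : x ≠ 0) :
    ∃ z : N ⊗[R] κ, z ≠ 0 ∧ ∀ u : N →ₗ[R] N, u.rTensor X x = 0 → u.rTensor κ z = 0 := by
  classical
  let b := Module.Free.chooseBasis L (L ⊗[R] N)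
  let m := IsLocalRing.maximalIdeal L
  -- separation by coordinates
  have hsep : ∀ (Y : Type u) [AddCommGroup Y] [Module R Y] [Module L Y] [IsScalarTower R L Y] (y : N ⊗[R] Y),
      (∀ i, coord (b.coord i) Y y = 0) → y = 0 := by
    intro Y _ _ _ _ y hy
    obtain ⟨e, he⟩ := exists_equiv b Y
    apply e.injective
    ext i
    rw [he, hy, map_zero, Finsupp.zero_apply]
  let c : Module.Free.ChooseBasisIndex L (L ⊗[R] N) → X := fun i => coord (b.coord i) X x
  let C : Submodule L X := Submodule.span L (Set.range c)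
  have hCfg : C.FG := by
    obtain ⟨e, he⟩ := exists_equiv b X
    have : (Set.range c).Finite := by
      have h1 : c = e x := funext fun i => (he x i).symm
      rw [h1]
      exact Set.Finite.subset (((e x).support.finite_toSet.image (e x)).union (Set.finite_singleton 0)) (by
        rintro _ ⟨i, rfl⟩
        by_cases hi : e x i = 0
        · exact Or.inr hi
        · exact Or.inl ⟨i, by simpa using hi, rfl⟩)
    exact Submodule.fg_span this
  -- lift
  obtain ⟨y, hy⟩ : ∃ y : N ⊗[R] C, (C.subtype.restrictScalars R).lTensor N y = x := by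
    have hex : Function.Exact (C.subtype.restrictScalars R) (C.mkQ.restrictScalars R) :=
      LinearMap.exact_subtype_mkQ C
    have := (lTensor_exact N hex C.mkQ_surjective x).mp (by
      apply hsep
      intro i
      rw [coord_lTensor, Submodule.mkQ_apply, Submodule.Quotient.mk_eq_zero]
      exact Submodule.subset_span ⟨i, rfl⟩)
    exact this
  have hinj : ∀ w : N ⊗[R] C, (C.subtype.restrictScalars R).lTensor N w = 0 → w = 0 := by
    intro w hw
    apply hsep
    intro i
    apply C.subtype_injective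
    rw [← coord_lTensor, hw, map_zero, map_zero]
  have hyc : ∀ i, (coord (b.coord i) C y : X) = c i := by
    intro i
    have := coord_lTensor (b.coord i) C.subtype y
    rw [hy] at this
    exact this.symm
  -- Nakayama
  obtain ⟨j, hj⟩ : ∃ j, c j ∉ m • C := by
    by_contra hcon
    push Not at hcon
    have h1 : C ≤ m • C := Submodule.span_le.mpr (by rintro _ ⟨i, rfl⟩; exact hcon i)
    have h2 : C = ⊥ := Submodule.eq_bot_of_le_smul_of_le_jacobson_bot m C hCfg h1
      (IsLocalRing.maximalIdeal_le_jacobson _)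
    apply hx
    apply hsep
    intro i
    have : c i ∈ C := Submodule.subset_span ⟨i, rfl⟩
    rw [h2] at this
    exact this
  -- a functional
  obtain ⟨h, hh⟩ : ∃ h : C →ₗ[L] κ, h (coord (b.coord j) C y) ≠ 0 := by
    let _ : Field (L ⧸ m) := Ideal.Quotient.field m
    let d : C ⧸ (m • ⊤ : Submodule L C) := Submodule.Quotient.mk (coord (b.coord j) C y)
    have hd : d ≠ 0 := by
      intro h0
      rw [Submodule.Quotient.mk_eq_zero] at h0
      apply hj
      have h1 : C.subtype (coord (b.coord j) C y) ∈ (m • ⊤ : Submodule L C).map C.subtype :=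
        Submodule.mem_map_of_mem h0
      rw [Submodule.map_smul'', Submodule.map_top, Submodule.range_subtype] at h1
      have h2 : C.subtype (coord (b.coord j) C y) = c j := hyc j
      rwa [h2] at h1
    obtain ⟨f, hf⟩ : ∃ f : Module.Dual (L ⧸ m) (C ⧸ (m • ⊤ : Submodule L C)), f d ≠ 0 := by
      by_contra hcon
      push Not at hcon
      exact hd ((Module.forall_dual_apply_eq_zero_iff (L ⧸ m) d).mp hcon)
    have hker : RingHom.ker (algebraMap L κ) = m :=
      IsLocalRing.eq_maximalIdeal (RingHom.ker_isMaximal_of_surjective _ hκ)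
    let g : (L ⧸ m) →ₗ[L] κ := Submodule.liftQ m (Algebra.linearMap L κ) (by rw [← hker]; exact le_rfl)
    have hg : Function.Injective g := by
      rw [← LinearMap.ker_eq_bot]
      exact Submodule.ker_liftQ_eq_bot _ _ _ (by rw [← hker]; exact le_rfl)
    refine ⟨g ∘ₗ (f.restrictScalars L) ∘ₗ Submodule.mkQ _, fun h0 => hf ?_⟩
    apply hg
    rw [map_zero]
    exact h0
  refine ⟨(h.restrictScalars R).lTensor N y, fun h0 => hh ?_, fun u hu => ?_⟩
  · rw [← coord_lTensor, h0, map_zero]
  · have h1 : u.rTensor C y = 0 := by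
      apply hinj
      rw [← LinearMap.comp_apply, LinearMap.lTensor_comp_rTensor, ← LinearMap.rTensor_comp_lTensor,
        LinearMap.comp_apply, hy, hu]
    rw [← LinearMap.comp_apply, LinearMap.rTensor_comp_lTensor, ← LinearMap.lTensor_comp_rTensor,
      LinearMap.comp_apply, h1, map_zero]

/-- a nonzero element has a nonzero coordinate. -/
theorem exists_coord_ne_zero [Module.Free L (L ⊗[R] N)] (X : Type u) [AddCommGroup X] [Module R X]
    [Module L X] [IsScalarTower R L X] (x : N ⊗[R] X) (hx : x ≠ 0) :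
    ∃ φ : L ⊗[R] N →ₗ[L] L, coord φ X x ≠ 0 := by
  classical
  let b := Module.Free.chooseBasis L (L ⊗[R] N)
  by_contra hcon
  push Not at hcon
  obtain ⟨e, he⟩ := exists_equiv b X
  apply hx
  apply e.injective
  ext i
  rw [he, hcon, map_zero, Finsupp.zero_apply]

/-- freeness of `L ⊗ N` for `N = R ⊗ M₀` and `L` an algebra over the residue field of a prime of `R₀`. -/
theorem free_of_model {R₀ : Type u} [CommRing R₀] [Algebra R₀ R] [Algebra R₀ L] [IsScalarTower R₀ R L]
    (p₀ : Ideal R₀) [p₀.IsPrime] (h0 : ∀ a ∈ p₀, algebraMap R₀ L a = 0)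
    (h1 : ∀ a ∉ p₀, IsUnit (algebraMap R₀ L a))
    {M₀ : Type u} [AddCommGroup M₀] [Module R₀ M₀] (e : R ⊗[R₀] M₀ ≃ₗ[R] N) : Module.Free L (L ⊗[R] N) := by
  let g : p₀.ResidueField →+* L := Ideal.ResidueField.lift p₀ (algebraMap R₀ L) h0 h1
  let _ : Algebra p₀.ResidueField L := g.toAlgebra
  have : IsScalarTower R₀ p₀.ResidueField L := IsScalarTower.of_algebraMap_eq (fun r => by
    change _ = g (algebraMap R₀ p₀.ResidueField r)
    exact (Ideal.ResidueField.lift_algebraMap p₀ (algebraMap R₀ L) h0 h1 r).symm)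
  let e1 : L ⊗[p₀.ResidueField] (p₀.ResidueField ⊗[R₀] M₀) ≃ₗ[L] L ⊗[R₀] M₀ :=
    AlgebraTensorModule.cancelBaseChange R₀ p₀.ResidueField L L M₀
  let e2 : L ⊗[R] (R ⊗[R₀] M₀) ≃ₗ[L] L ⊗[R₀] M₀ :=
    AlgebraTensorModule.cancelBaseChange R₀ R L L M₀
  let e3 : L ⊗[R] (R ⊗[R₀] M₀) ≃ₗ[L] L ⊗[R] N :=
    AlgebraTensorModule.congr (LinearEquiv.refl L L) e
  exact Module.Free.of_equiv (e1 ≪≫ₗ e2.symm ≪≫ₗ e3)

end Core

section Descent

variable {R S L : Type u} [CommRing R] [CommRing S] [Algebra R S] [CommRing L] [Algebra R L] {N : Type u} [AddCommGroup N] [Module S N]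
  [Module R N] [IsScalarTower R S N]

theorem smul_eq_rTensor (s : S) {X : Type u} [AddCommGroup X] [Module R X] (x : N ⊗[R] X) :
    s • x = ((LinearMap.lsmul S N s).restrictScalars R).rTensor X x := by
  induction x with
  | zero => simp
  | tmul n x => simp [TensorProduct.smul_tmul']
  | add x y hx hy => simp only [map_add, smul_add, hx, hy]

/-- the specialisation step -/
theorem descend [IsLocalRing L] [Module.Free L (L ⊗[R] N)] {κ : Type u} [Field κ] [Algebra R κ] [Algebra L κ]
    [IsScalarTower R L κ] (hκ : Function.Surjective (algebraMap L κ)) (X : Type u) [AddCommGroup X] [Module R X]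
    [Module L X] [IsScalarTower R L X] (q : Ideal S) [hq : q.IsPrime]
    (hinj : ∀ s ∉ q, ∀ z : N ⊗[R] κ, s • z = 0 → z = 0) (x : N ⊗[R] X) (hx : IsWA q x) :
    (∃ z : N ⊗[R] κ, (∀ s : S, s • z = 0 → s ∈ q) ∧ ∀ f ∈ q, ∃ n : ℕ, f ^ n • z = 0) ∧
    ∃ m : X, m ≠ 0 ∧ ∀ r : R, algebraMap R S r ∈ q → ∃ n : ℕ, r ^ n • m = 0 := by
  -- `S ∖ q` acts injectively
  have key : ∀ y : N ⊗[R] X, y ≠ 0 → ∃ z : N ⊗[R] κ, z ≠ 0 ∧ ∀ s : S, s • y = 0 → s • z = 0 := by
    intro y hy
    obtain ⟨z, hz, h⟩ := exists_ne_zero (N := N) hκ X y hy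
    refine ⟨z, hz, fun s hs => ?_⟩
    rw [smul_eq_rTensor] at hs ⊢
    exact h _ hs
  have hnz : ∀ y : N ⊗[R] X, ∀ s ∉ q, s • y = 0 → y = 0 := by
    intro y s hs hy
    by_contra hy0
    obtain ⟨z, hz, h⟩ := key y hy0
    exact hz (hinj s hs z (h s hy))
  have hnil : ∀ f ∈ q, ∃ n : ℕ, f ^ n • x = 0 := by
    intro f hf
    obtain ⟨n, a, ha, h⟩ := hx.2 f hf
    rw [mul_smul] at h
    exact ⟨n, hnz _ a ha h⟩
  constructor
  · obtain ⟨z, hz, h⟩ := key x hx.ne_zero
    refine ⟨z, fun s hs => ?_, fun f hf => ?_⟩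
    · by_contra hsq
      exact hz (hinj s hsq z hs)
    · obtain ⟨n, hn⟩ := hnil f hf
      exact ⟨n, h _ hn⟩
  · obtain ⟨φ, hφ⟩ := exists_coord_ne_zero (L := L) X x hx.ne_zero
    refine ⟨coord φ X x, hφ, fun r hr => ?_⟩
    obtain ⟨n, hn⟩ := hnil _ hr
    refine ⟨n, ?_⟩
    rw [← map_smul]
    rw [← map_pow, algebraMap_smul] at hn
    rw [hn, map_zero]

end Descent

section FiberPart

variable {R S : Type u} [CommRing R] [CommRing S] [Algebra R S] (p : Ideal R) [p.IsPrime]
  (N : Type u) [AddCommGroup N] [Module S N] [Module R N] [IsScalarTower R S N]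

/-- weakly associated primes of `N ⊗ κ(p)` as associated primes of the fibre module. -/
theorem fiberIdeal_mem_associatedPrimes (q : Ideal S) [hq : q.IsPrime] (z : N ⊗[R] p.ResidueField) (h1 : ∀ s : S, s • z = 0 → s ∈ q)
    (h2 : ∀ f ∈ q, ∃ n : ℕ, f ^ n • z = 0) :
    FlatCA.fiberIdeal p q ∈ associatedPrimes (p.Fiber S) (FlatCA.fiberMod p S N) := by
  have : q ∈ associatedPrimes S (FlatCA.fiberMod p S N) := by
    refine ⟨hq, (Flat2A.FiberEquiv.fiberModEquiv S p N).symm z, ?_⟩
    ext s
    constructor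
    · intro hs
      obtain ⟨n, hn⟩ := h2 s hs
      refine ⟨n, ?_⟩
      rw [Submodule.mem_colon_singleton, Submodule.mem_bot, ← map_smul, hn, map_zero]
    · rintro ⟨n, hn⟩
      rw [Submodule.mem_colon_singleton, Submodule.mem_bot, ← map_smul, LinearEquiv.map_eq_zero_iff] at hn
      exact hq.mem_of_pow_mem n (h1 _ hn)
  exact ((Flat2A.FiberAss.mem_associatedPrimes_fiberMod_iff p N q).mp this).2.2

/-- one element of `S ∖ q` kills all the `q`-null elements of the fibre module. -/
theorem exists_uniform_fiber [Algebra.FiniteType R S] [Module.Finite S N] (q : Ideal S) [hq : q.IsPrime] :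
    ∃ g ∉ q, ∀ x : N ⊗[R] p.ResidueField, ∀ s ∉ q, s • x = 0 → g • x = 0 := by
  have := Flat2A.Fiber.fiber_isNoetherianRing (R := R) (S := S) p
  have := Flat2A.Fiber.fiberMod_finite (S := S) N p
  have : IsNoetherian (p.Fiber S) (FlatCA.fiberMod p S N) := isNoetherian_of_isNoetherianRing_of_finite _ _
  obtain ⟨g, hg, h⟩ := exists_uniform (S := S) (X := FlatCA.fiberMod p S N) (T := p.Fiber S)
    (fun s => ⟨_, fun x => Flat2A.FiberAss.smul_fiberMod p N s x⟩) q
  refine ⟨g, hg, fun x s hs hx => ?_⟩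
  let e := Flat2A.FiberEquiv.fiberModEquiv S p N
  have h1 := h (e.symm x) s hs (by rw [← map_smul, hx, map_zero])
  rwa [← map_smul, LinearEquiv.map_eq_zero_iff] at h1

end FiberPart

section Forward

variable {R S : Type u} [CommRing R] [CommRing S] [Algebra R S]

theorem smul_eq_lTensor {N X : Type u} [AddCommGroup N] [Module R N] [AddCommGroup X] [Module R X] (r : R) (x : N ⊗[R] X) :
    r • x = (LinearMap.lsmul R X r).lTensor N x := by
  induction x with
  | zero => simp
  | tmul n x => simp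
  | add x y hx hy => simp only [map_add, smul_add, hx, hy]

theorem lTensor_pi_eq_zero {ι : Type u} [Fintype ι] {N X : Type u} [AddCommGroup N] [Module R N] [AddCommGroup X] [Module R X]
    (c : ι → R) (x : N ⊗[R] X) (hx : ∀ i, c i • x = 0) :
    (LinearMap.pi (fun i => LinearMap.lsmul R X (c i))).lTensor N x = 0 := by
  classical
  apply (TensorProduct.piRight R R N (fun _ : ι => X)).injective
  rw [map_zero]
  funext i
  rw [Pi.zero_apply, ← hx i]
  clear hx
  induction x with
  | zero => simp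
  | tmul n x => simp
  | add x y hx hy => simp only [map_add, smul_add, Pi.add_apply, hx, hy]

theorem exists_smul_eq_zero_of_lTensor {N M M' : Type u} [AddCommGroup N] [Module R N] [AddCommGroup M] [Module R M]
    [AddCommGroup M'] [Module R M'] (T : Submonoid R) (ν : M →ₗ[R] M') [IsLocalizedModule T ν] (x : N ⊗[R] M)
    (hx : ν.lTensor N x = 0) : ∃ t ∈ T, t • x = 0 := by
  have h1 : AlgebraTensorModule.rTensor R N ν (TensorProduct.comm R N M x) = AlgebraTensorModule.rTensor R N ν 0 := by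
    rw [map_zero]
    change ν.rTensor N (TensorProduct.comm R N M x) = 0
    rw [LinearMap.rTensor_comm, hx, map_zero]
  obtain ⟨t, ht⟩ := (IsLocalizedModule.eq_iff_exists T (AlgebraTensorModule.rTensor R N ν)).mp h1
  refine ⟨t, t.2, (TensorProduct.comm R N M).injective ?_⟩
  rw [map_zero, map_smul]
  rw [smul_zero] at ht
  exact ht

theorem eq_zero_of_smul {A V V' : Type u} [CommRing A] [AddCommGroup V] [Module A V] [AddCommGroup V'] [Module A V']
    (T : Submonoid A) (f : V →ₗ[A] V') [IsLocalizedModule T f] {a : A} (ha : a ∈ T) {z : V'} (hz : a • z = 0) : z = 0 :=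
  IsLocalizedModule.smul_injective f (⟨a, ha⟩ : T) (hz.trans (smul_zero a).symm)

theorem exists_smul_of_map_eq_zero {A V V' : Type u} [CommRing A] [AddCommGroup V] [Module A V] [AddCommGroup V'] [Module A V']
    (T : Submonoid A) (f : V →ₗ[A] V') [IsLocalizedModule T f] {z : V} (hz : f z = 0) : ∃ t ∈ T, t • z = 0 := by
  obtain ⟨t, ht⟩ := (IsLocalizedModule.eq_iff_exists T f).mp (hz.trans (map_zero f).symm)
  rw [smul_zero] at ht
  exact ⟨t, t.2, ht⟩

theorem exists_smul_eq_map {A V V' : Type u} [CommRing A] [AddCommGroup V] [Module A V] [AddCommGroup V'] [Module A V']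
    (T : Submonoid A) (f : V →ₗ[A] V') [IsLocalizedModule T f] (z : V') : ∃ t ∈ T, ∃ w : V, t • z = f w := by
  obtain ⟨⟨w, t⟩, hw⟩ := IsLocalizedModule.surj T f z
  exact ⟨t, t.2, w, hw⟩

/-- After localizing at a uniform killer `g`, the elements outside of `q` act injectively. -/
theorem injective_of_uniform {A V V' : Type u} [CommRing A] [AddCommGroup V] [Module A V] [AddCommGroup V'] [Module A V']
    (q : Ideal A) [hq : q.IsPrime] (g : A) (hg : g ∉ q) (f : V →ₗ[A] V') [IsLocalizedModule (Submonoid.powers g) f]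
    (huni : ∀ x : V, ∀ s ∉ q, s • x = 0 → g • x = 0) : ∀ s ∉ q, ∀ z : V', s • z = 0 → z = 0 := by
  intro s hs z hz
  obtain ⟨t, ht, w, hw⟩ := exists_smul_eq_map (Submonoid.powers g) f z
  obtain ⟨t', ⟨k, rfl⟩, ht'⟩ := exists_smul_of_map_eq_zero (Submonoid.powers g) f (z := s • w) (by
    rw [map_smul, ← hw, smul_comm, hz, smul_zero])
  rw [smul_smul] at ht'
  have h2 : g • w = 0 := huni w _ (fun h => (hq.mem_or_mem h).elim (fun h => hg (hq.mem_of_pow_mem k h)) hs) ht'
  refine eq_zero_of_smul (Submonoid.powers g) f (Submonoid.mul_mem _ (Submonoid.mem_powers g) ht) (z := z) ?_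
  rw [mul_smul, hw, ← map_smul, h2, map_zero]

/-- Transfer of an element whose annihilator has radical `q` from a localization at a uniform killer. -/
theorem exists_of_uniform {A V V' : Type u} [CommRing A] [AddCommGroup V] [Module A V] [AddCommGroup V'] [Module A V']
    (q : Ideal A) [hq : q.IsPrime] (g : A) (hg : g ∉ q) (f : V →ₗ[A] V') [IsLocalizedModule (Submonoid.powers g) f]
    (huni : ∀ x : V, ∀ s ∉ q, s • x = 0 → g • x = 0) (z : V') (hz1 : ∀ s : A, s • z = 0 → s ∈ q)
    (hz2 : ∀ f ∈ q, ∃ n : ℕ, f ^ n • z = 0) :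
    ∃ w : V, (∀ s : A, s • w = 0 → s ∈ q) ∧ ∀ f ∈ q, ∃ n : ℕ, f ^ n • w = 0 := by
  obtain ⟨t, ⟨k, rfl⟩, w, hw⟩ := exists_smul_eq_map (Submonoid.powers g) f z
  refine ⟨g • w, fun s hs => ?_, fun a ha => ?_⟩
  · have h1 : (s * g * g ^ k) • z = 0 := by
      have : g ^ k • z = f w := hw
      rw [mul_smul, this, ← map_smul, mul_smul, hs, map_zero]
    rcases hq.mem_or_mem (hz1 _ h1) with h | h
    · rcases hq.mem_or_mem h with h | h
      · exact h
      · exact absurd h hg
    · exact absurd (hq.mem_of_pow_mem k h) hg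
  · obtain ⟨n, hn⟩ := hz2 a ha
    refine ⟨n, ?_⟩
    obtain ⟨t', ⟨l, rfl⟩, ht'⟩ := exists_smul_of_map_eq_zero (Submonoid.powers g) f (z := a ^ n • w) (by
      rw [map_smul, ← hw, smul_comm, hn, smul_zero])
    rw [smul_comm]
    exact huni _ _ (fun h => hg (hq.mem_of_pow_mem l h)) ht'

/-- Weakly associated primes descend from the localization. -/
theorem isWA_of_localized {A V V' : Type u} [CommRing A] [AddCommGroup V] [Module A V] [AddCommGroup V'] [Module A V']
    (p : Ideal A) [hp : p.IsPrime] (f : V →ₗ[A] V') [IsLocalizedModule p.primeCompl f] (m : V') (hm : m ≠ 0)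
    (hm1 : ∀ r ∈ p, ∃ n : ℕ, r ^ n • m = 0) : ∃ w : V, IsWA p w := by
  obtain ⟨t, ht, w, hw⟩ := exists_smul_eq_map p.primeCompl f m
  refine ⟨w, fun a ha => ?_, fun b hb => ?_⟩
  · by_contra hap
    refine hm (eq_zero_of_smul p.primeCompl f (Submonoid.mul_mem _ (show a ∈ p.primeCompl from hap) ht) (z := m) ?_)
    rw [mul_smul, hw, ← map_smul, ha, map_zero]
  · obtain ⟨n, hn⟩ := hm1 b hb
    obtain ⟨t', ht', h⟩ := exists_smul_of_map_eq_zero p.primeCompl f (z := b ^ n • w) (by
      rw [map_smul, ← hw, smul_comm, hn, smul_zero])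
    exact ⟨n, t', ht', by rw [mul_smul, h]⟩

variable [Algebra.FinitePresentation R S]
    (N : Type u) [AddCommGroup N] [Module S N] [Module R N] [IsScalarTower R S N] [Module.FinitePresentation S N]
    (M : Type u) [AddCommGroup M] [Module R M]
    (p : Ideal R) [hp : p.IsPrime] (q : Ideal S) [hq : q.IsPrime] [hqp : q.LiesOver p]

theorem forward (hflat : FlatCA.FlatAt R q N) (h : q ∈ FlatCA.weakAss S (N ⊗[R] M)) :
    p ∈ FlatCA.weakAss R M ∧ FlatCA.fiberIdeal p q ∈ associatedPrimes (p.Fiber S) (FlatCA.fiberMod p S N) := by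
  classical
  obtain ⟨g, hg, huni⟩ := exists_uniform_fiber p N q
  have hmem : ∀ r : R, algebraMap R S r ∈ q ↔ r ∈ p := fun r => by
    rw [hqp.over]; rfl
  let T := Submonoid.powers g
  have hT : ∀ t : T, (t : S) ∉ q := by
    rintro ⟨_, n, rfl⟩ h
    exact hg (hq.mem_of_pow_mem n h)
  let S' := Localization T
  let N' := LocalizedModule T N
  let γ : N →ₗ[S] N' := LocalizedModule.mkLinearMap T N
  have : Algebra.FinitePresentation S S' := IsLocalization.Away.finitePresentation g
  have : Algebra.FinitePresentation R S' := Algebra.FinitePresentation.trans R S S'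
  have : IsScalarTower R S' N' := inferInstance
  obtain ⟨A₀, n, M₀, _, _, _, _, hN, _, ⟨e⟩⟩ := Ega43.FpModModel.exists_model' R S' N'
  let A := Localization.AtPrime p
  let Mp := LocalizedModule p.primeCompl M
  let ν : M →ₗ[R] Mp := LocalizedModule.mkLinearMap p.primeCompl M
  obtain ⟨x₀, hx₀⟩ := (mem_weakAss_iff q).mp h
  have hx₁ : IsWA q (AlgebraTensorModule.lTensor S N ν x₀) := by
    rw [isWA_map_iff]
    · exact hx₀
    · intro x hx
      obtain ⟨t, ht, htx⟩ := exists_smul_eq_zero_of_lTensor p.primeCompl ν x hx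
      exact ⟨algebraMap R S t, fun h => ht ((hmem _).mp h), by rw [algebraMap_smul, htx]⟩
  obtain ⟨x, hx, hxk⟩ := exists_killed ((algebraMap R S).comp (algebraMap A₀ R)) q _ hx₁
  let p₀ : Ideal A₀ := p.comap (algebraMap A₀ R)
  have hxk' : ∀ a ∈ p₀, (algebraMap A₀ R a) • x = 0 := by
    intro a ha
    have := hxk a ((hmem _).mpr ha)
    rwa [RingHom.comp_apply, algebraMap_smul] at this
  let J : Ideal A := p₀.map (algebraMap A₀ A)
  let L := A ⧸ J
  let M₁ := Submodule.torsionBySet A Mp (J : Set A)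
  let ι : M₁ →ₗ[R] Mp := M₁.subtype.restrictScalars R
  have hι : Function.Injective ι := M₁.subtype_injective
  obtain ⟨G, hG⟩ := (isNoetherianRing_iff_ideal_fg A₀).mp hN p₀
  let hh : Mp →ₗ[R] (G → Mp) := LinearMap.pi (fun a : G => LinearMap.lsmul R Mp (algebraMap A₀ R a))
  have hex : Function.Exact ι hh := by
    intro m
    constructor
    · intro hm
      have h1 : ∀ a ∈ p₀, (algebraMap A₀ A a) • m = 0 := by
        intro a ha
        rw [← hG] at ha
        induction ha using Submodule.span_induction with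
        | mem a ha =>
          have := congrFun hm ⟨a, ha⟩
          rw [IsScalarTower.algebraMap_apply A₀ R A, algebraMap_smul]
          exact this
        | zero => rw [map_zero, zero_smul]
        | add a b _ _ ha hb => rw [map_add, add_smul, ha, hb, add_zero]
        | smul a b _ hb => rw [smul_eq_mul, map_mul, mul_smul, hb, smul_zero]
      refine ⟨⟨m, ?_⟩, rfl⟩
      rw [Submodule.mem_torsionBySet_iff]
      rintro ⟨a, ha⟩
      change a • m = 0
      induction ha using Submodule.span_induction with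
      | mem a ha =>
        obtain ⟨b, hb, rfl⟩ := ha
        exact h1 b hb
      | zero => exact zero_smul _ _
      | add a b _ _ ha hb => rw [add_smul, ha, hb, add_zero]
      | smul a b _ hb => rw [smul_eq_mul, mul_smul, hb, smul_zero]
    · rintro ⟨m, rfl⟩
      funext a
      have h2 := (Submodule.mem_torsionBySet_iff (R := A) (J : Set A) (m : Mp)).mp m.2
        ⟨algebraMap A₀ A a, Ideal.mem_map_of_mem _ (hG ▸ Ideal.subset_span a.2)⟩
      change (algebraMap A₀ R a) • (m : Mp) = 0
      change (algebraMap A₀ A a) • (m : Mp) = 0 at h2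
      rwa [IsScalarTower.algebraMap_apply A₀ R A, algebraMap_smul] at h2
  obtain ⟨s, hs, y, hy⟩ := exists_smul_eq_lTensor q hflat ι hh hex x (lTensor_pi_eq_zero _ _ fun a =>
    hxk' a (hG ▸ Ideal.subset_span a.2))
  have hyW : IsWA q y := by
    have h1 : IsWA q (s • x) := hx.smul hs
    rw [hy] at h1
    exact (isWA_map_iff (AlgebraTensorModule.lTensor S N ι)
      (fun z hz => exists_smul_eq_zero q hflat ι hι z hz) y).mp h1
  -- pass to `N'`
  have hγ : ∀ (X : Type u) [AddCommGroup X] [Module R X] (z : N ⊗[R] X), AlgebraTensorModule.rTensor R X γ z = 0 →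
      ∃ t : T, (t : S) • z = 0 := by
    intro X _ _ z hz
    obtain ⟨t, ht⟩ := (IsLocalizedModule.eq_iff_exists T (AlgebraTensorModule.rTensor R X γ)).mp
      (hz.trans (map_zero _).symm)
    rw [smul_zero] at ht
    exact ⟨t, ht⟩
  have hy' : IsWA q (AlgebraTensorModule.rTensor R M₁ γ y) := (isWA_map_iff _ (fun z hz => by
    obtain ⟨t, ht⟩ := hγ M₁ z hz
    exact ⟨t, hT t, ht⟩) y).mpr hyW
  -- the local ring `L`
  have hJ : J ≤ IsLocalRing.maximalIdeal A := by
    rw [Ideal.map_le_iff_le_comap]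
    intro a ha
    rw [Ideal.mem_comap, IsScalarTower.algebraMap_apply A₀ R A, IsLocalization.AtPrime.to_map_mem_maximal_iff A p]
    exact ha
  have : Nontrivial L := Ideal.Quotient.nontrivial_iff.mpr (fun h => by
    rw [h] at hJ
    exact (IsLocalRing.maximalIdeal.isMaximal A).ne_top (top_le_iff.mp hJ))
  have : IsLocalRing L := IsLocalRing.of_surjective' (Ideal.Quotient.mk J) Ideal.Quotient.mk_surjective
  have : IsScalarTower A₀ R L := inferInstance
  have : Module.Free L (L ⊗[R] N') := by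
    refine free_of_model p₀ (fun a ha => ?_) (fun a ha => ?_) e
    · rw [IsScalarTower.algebraMap_apply A₀ A L]
      exact Ideal.Quotient.eq_zero_iff_mem.mpr (Ideal.mem_map_of_mem _ ha)
    · rw [IsScalarTower.algebraMap_apply A₀ R L, IsScalarTower.algebraMap_apply R A L]
      exact (IsLocalization.map_units A (⟨algebraMap A₀ R a, ha⟩ : p.primeCompl)).map _
  let κ := p.ResidueField
  let _ : Algebra L κ := (Ideal.Quotient.lift J (algebraMap A κ) (fun a ha =>
    (IsLocalRing.residue_eq_zero_iff a).mpr (hJ ha))).toAlgebra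
  have : IsScalarTower R L κ := IsScalarTower.of_algebraMap_eq (R := R) (S := L) (A := κ) (fun a => by
    rw [IsScalarTower.algebraMap_apply R A κ]
    rfl)
  have hκ : Function.Surjective (algebraMap L κ) := by
    intro z
    obtain ⟨a, rfl⟩ := IsLocalRing.residue_surjective (R := A) z
    exact ⟨Ideal.Quotient.mk J a, rfl⟩
  have hinj : ∀ s ∉ q, ∀ z : N' ⊗[R] κ, s • z = 0 → z = 0 :=
    injective_of_uniform q g hg (AlgebraTensorModule.rTensor R κ γ) huni
  obtain ⟨⟨z, hz1, hz2⟩, m, hm, hm1⟩ := descend (N := N') hκ M₁ q hinj _ hy'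
  constructor
  · rw [mem_weakAss_iff]
    exact isWA_of_localized p ν (m : Mp) (fun h => hm (Subtype.ext h)) (fun r hr => by
      obtain ⟨n, hn⟩ := hm1 r ((hmem r).mpr hr)
      exact ⟨n, congrArg Subtype.val hn⟩)
  · obtain ⟨w, hw1, hw2⟩ := exists_of_uniform q g hg (AlgebraTensorModule.rTensor R κ γ) huni z hz1 hz2
    exact fiberIdeal_mem_associatedPrimes p N q w hw1 hw2

end Forward

section Backward

/-- the elements killing `x` up to elements outside of `q`. -/
def nullIdeal {S : Type u} [CommRing S] {X : Type v} [AddCommGroup X] [Module S X] (q : Ideal S) [hq : q.IsPrime]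
    (x : X) : Ideal S where
  carrier := {a | ∃ s ∉ q, s • a • x = 0}
  zero_mem' := ⟨1, fun h => hq.ne_top ((Ideal.eq_top_iff_one q).mpr h), by simp⟩
  add_mem' := by
    rintro a b ⟨s, hs, h1⟩ ⟨s', hs', h2⟩
    refine ⟨s * s', fun h => (hq.mem_or_mem h).elim hs hs', ?_⟩
    rw [add_smul, smul_add, mul_smul, mul_smul, h2, smul_zero, add_zero, smul_comm, h1, smul_zero]
  smul_mem' := by
    rintro t a ⟨s, hs, h1⟩
    refine ⟨s, hs, ?_⟩
    rw [smul_eq_mul, mul_smul, smul_comm, h1, smul_zero]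

theorem mem_nullIdeal {S : Type u} [CommRing S] {X : Type v} [AddCommGroup X] [Module S X] {q : Ideal S} [hq : q.IsPrime]
    {x : X} {a : S} : a ∈ nullIdeal q x ↔ ∃ s ∉ q, s • a • x = 0 := Iff.rfl

/-- A finitely generated ideal contained in `q` can be made to kill an element with `q` minimal over its annihilator. -/
theorem exists_killed_fg {S : Type u} [CommRing S] {X : Type v} [AddCommGroup X] [Module S X] (q : Ideal S)
    [hq : q.IsPrime] (I : Ideal S) (hI : I ≤ q) (hfg : I.FG) (x₀ : X) (hx₀ : IsWA q x₀) :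
    ∃ x : X, IsWA q x ∧ ∀ a ∈ I, a • x = 0 := by
  classical
  have hex : ∃ n : ℕ, I ^ n ≤ nullIdeal q x₀ := by
    refine Ideal.exists_pow_le_of_le_radical_of_fg (fun f hf => ?_) hfg
    obtain ⟨n, a, ha, h⟩ := hx₀.2 f (hI hf)
    exact ⟨n, a, ha, by rw [← mul_smul]; exact h⟩
  have hn0 : Nat.find hex ≠ 0 := by
    intro h0
    have h1 := Nat.find_spec hex
    rw [h0, pow_zero, Ideal.one_eq_top, top_le_iff, Ideal.eq_top_iff_one, mem_nullIdeal] at h1
    obtain ⟨s, hs, h⟩ := h1
    rw [one_smul] at h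
    exact hs (hx₀.1 s h)
  obtain ⟨k, hk⟩ := Nat.exists_eq_succ_of_ne_zero hn0
  have h1 : I ^ (k + 1) ≤ nullIdeal q x₀ := by
    have := Nat.find_spec hex
    rwa [hk] at this
  have h2 : ¬ I ^ k ≤ nullIdeal q x₀ := Nat.find_min hex (by omega)
  obtain ⟨c, hc, hc'⟩ := Set.not_subset.mp h2
  have hy : IsWA q (c • x₀) := by
    refine ⟨fun b hb => ?_, fun f hf => ?_⟩
    · by_contra hbq
      exact hc' ⟨b, hbq, hb⟩
    · obtain ⟨m, s, hs, h⟩ := hx₀.2 f hf
      exact ⟨m, s, hs, by rw [smul_comm, h, smul_zero]⟩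
  obtain ⟨G, hG⟩ := hfg
  obtain ⟨s, hs, h⟩ := exists_uniform_finset (q := q) G (fun a => a • c • x₀) (fun a ha => by
    have h3 : a * c ∈ I ^ (k + 1) := by
      rw [pow_succ', ← hG]
      exact Ideal.mul_mem_mul (Ideal.subset_span ha) (hG ▸ hc)
    obtain ⟨s, hs, h⟩ := h1 h3
    exact ⟨s, hs, by rw [← mul_smul a c]; exact h⟩)
  refine ⟨s • c • x₀, hy.smul hs, fun a ha => ?_⟩
  rw [← hG] at ha
  induction ha using Submodule.span_induction with
  | mem x hx => rw [smul_comm]; exact h x hx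
  | zero => rw [zero_smul]
  | add x y _ _ hx hy => rw [add_smul, hx, hy, add_zero]
  | smul a x _ hx => rw [smul_eq_mul, mul_smul, hx, smul_zero]

variable {R S : Type u} [CommRing R] [CommRing S] [Algebra R S] (p : Ideal R) [hp : p.IsPrime]

instance isLocalizedModule_residueField :
    IsLocalizedModule p.primeCompl (IsScalarTower.toAlgHom R (R ⧸ p) p.ResidueField).toLinearMap := by
  rw [isLocalizedModule_iff_isLocalization]
  have : Algebra.algebraMapSubmonoid (R ⧸ p) p.primeCompl = nonZeroDivisors (R ⧸ p) := by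
    ext x
    obtain ⟨x, rfl⟩ := Ideal.Quotient.mk_surjective x
    rw [mem_nonZeroDivisors_iff_ne_zero, ne_eq, Ideal.Quotient.eq_zero_iff_mem]
    constructor
    · rintro ⟨y, hy, h⟩ hx
      have h' : Ideal.Quotient.mk p y = Ideal.Quotient.mk p x := h
      rw [Ideal.Quotient.eq] at h'
      exact hy (by simpa using p.add_mem h' hx)
    · intro hx
      exact ⟨x, hx, rfl⟩
  rw [this]
  infer_instance

/-- `n ⊗ 1 = 0` in `X ⊗ κ(p)` iff `n` lies in `p X` up to elements outside `p`. -/
theorem exists_smul_mem_of_tmul_eq_zero (X : Type u) [AddCommGroup X] [Module R X] (n : X)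
    (h : n ⊗ₜ[R] (1 : p.ResidueField) = 0) : ∃ t ∉ p, t • n ∈ p • (⊤ : Submodule R X) := by
  let ν : (R ⧸ p) →ₗ[R] p.ResidueField := (IsScalarTower.toAlgHom R (R ⧸ p) p.ResidueField).toLinearMap
  have h1 : ν.lTensor X (n ⊗ₜ[R] (1 : R ⧸ p)) = 0 := by
    rw [LinearMap.lTensor_tmul]
    have : ν 1 = 1 := map_one (algebraMap (R ⧸ p) p.ResidueField)
    rw [this, h]
  obtain ⟨t, ht, h2⟩ := exists_smul_eq_zero_of_lTensor p.primeCompl ν _ h1
  refine ⟨t, ht, ?_⟩
  have h3 := congrArg (tensorQuotEquivQuotSMul X p) h2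
  rw [map_smul, map_zero] at h3
  have h4 : tensorQuotEquivQuotSMul X p (n ⊗ₜ[R] (1 : R ⧸ p)) = Submodule.Quotient.mk n := by
    have := tensorQuotEquivQuotSMul_tmul_mk p n (1 : R)
    rw [one_smul, map_one] at this
    exact this
  rw [h4, ← Submodule.Quotient.mk_smul, Submodule.Quotient.mk_eq_zero] at h3
  exact h3

theorem exists_smul_eq_tmul (X : Type u) [AddCommGroup X] [Module R X] (z : X ⊗[R] p.ResidueField) :
    ∃ t ∉ p, ∃ n : X, t • z = n ⊗ₜ[R] (1 : p.ResidueField) := by
  have key : ∀ c : p.ResidueField, ∃ t ∉ p, ∃ r : R, t • c = algebraMap R p.ResidueField r := by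
    intro c
    obtain ⟨t, ht, w, hw⟩ := exists_smul_eq_map p.primeCompl (IsScalarTower.toAlgHom R (R ⧸ p) p.ResidueField).toLinearMap c
    obtain ⟨r, rfl⟩ := Ideal.Quotient.mk_surjective w
    exact ⟨t, ht, r, hw⟩
  induction z with
  | zero => exact ⟨1, fun h => hp.ne_top ((Ideal.eq_top_iff_one p).mpr h), 0, by simp⟩
  | tmul n c =>
    obtain ⟨t, ht, r, h⟩ := key c
    refine ⟨t, ht, r • n, ?_⟩
    rw [← tmul_smul, h, Algebra.algebraMap_eq_smul_one, tmul_smul, smul_tmul']
  | add x y hx hy =>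
    obtain ⟨t, ht, n, h1⟩ := hx
    obtain ⟨t', ht', n', h2⟩ := hy
    refine ⟨t * t', fun h => (hp.mem_or_mem h).elim ht ht', t' • n + t • n', ?_⟩
    rw [smul_add, add_tmul, ← smul_tmul', ← smul_tmul', ← h1, ← h2, smul_smul, smul_smul, mul_comm t' t]

/-- Modulo `pS`, the prime `q` is generated by finitely many elements, up to elements outside of `p`. -/
theorem exists_finset_generators [IsNoetherianRing (p.Fiber S)] (q : Ideal S) :
    ∃ F : Finset S, (F : Set S) ⊆ q ∧ ∀ f ∈ q, ∃ t ∉ p, t • f ∈ Ideal.span (F : Set S) ⊔ p.map (algebraMap R S) := by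
  classical
  let inc : S →+* p.Fiber S := (Algebra.TensorProduct.includeRight (R := R) (A := p.ResidueField) (B := S)).toRingHom
  obtain ⟨G, hG, hG'⟩ := (Submodule.fg_span_iff_fg_span_finset_subset (inc '' (q : Set S))).mp
    (IsNoetherian.noetherian (FlatCA.fiberIdeal p q))
  obtain ⟨F, hF, hF'⟩ : ∃ F : Finset S, (F : Set S) ⊆ q ∧ F.image inc = G := by
    obtain ⟨F, hF, hF'⟩ := Finset.subset_set_image_iff.mp hG
    exact ⟨F, hF, hF'⟩
  refine ⟨F, hF, fun f hf => ?_⟩
  let b : Ideal S := Ideal.span (F : Set S)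
  -- `f` vanishes in `κ ⊗ S/b`
  have h1 : inc f ∈ b.map inc := by
    have : b.map inc = FlatCA.fiberIdeal p q := by
      rw [Ideal.map_span]
      change Submodule.span _ _ = Submodule.span _ _
      rw [hG', ← hF', Finset.coe_image]
    rw [this]
    exact Ideal.mem_map_of_mem _ hf
  let φ : p.Fiber S →ₐ[R] p.ResidueField ⊗[R] (S ⧸ b) :=
    Algebra.TensorProduct.map (AlgHom.id R p.ResidueField) (Ideal.Quotient.mkₐ R b)
  have h2 : b.map inc ≤ RingHom.ker φ.toRingHom := by
    rw [Ideal.map_le_iff_le_comap]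
    intro x hx
    rw [Ideal.mem_comap, RingHom.mem_ker]
    change φ ((1 : p.ResidueField) ⊗ₜ[R] x) = 0
    have : Ideal.Quotient.mk b x = 0 := Ideal.Quotient.eq_zero_iff_mem.mpr hx
    simp [φ, this]
  have h3 : (1 : p.ResidueField) ⊗ₜ[R] (Ideal.Quotient.mk b f) = 0 := by
    have := h2 h1
    rw [RingHom.mem_ker] at this
    change φ ((1 : p.ResidueField) ⊗ₜ[R] f) = 0 at this
    simpa [φ] using this
  have h4 : (Ideal.Quotient.mk b f) ⊗ₜ[R] (1 : p.ResidueField) = 0 := by
    have := congrArg (TensorProduct.comm R _ _) h3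
    rwa [TensorProduct.comm_tmul, map_zero] at this
  obtain ⟨t, ht, h5⟩ := exists_smul_mem_of_tmul_eq_zero p (S ⧸ b) _ h4
  refine ⟨t, ht, ?_⟩
  have h6 : ∀ y ∈ p • (⊤ : Submodule R (S ⧸ b)), ∀ x : S, Ideal.Quotient.mk b x = y →
      x ∈ b ⊔ p.map (algebraMap R S) := by
    intro y hy x hx
    have h7 : y ∈ (p.map (algebraMap R S)).map (Ideal.Quotient.mk b) := by
      clear hx
      induction hy using Submodule.smul_induction_on' with
      | smul r hr n _ =>
        obtain ⟨n, rfl⟩ := Ideal.Quotient.mk_surjective n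
        have : r • (Ideal.Quotient.mk b n) = Ideal.Quotient.mk b (algebraMap R S r * n) := by
          rw [← Algebra.smul_def]; rfl
        rw [this]
        exact Ideal.mem_map_of_mem _ (Ideal.mul_mem_right _ _ (Ideal.mem_map_of_mem _ hr))
      | add x _ y _ hx hy => exact Ideal.add_mem _ hx hy
    rw [← hx] at h7
    have := Ideal.mem_comap.mpr h7
    rw [Ideal.comap_map_of_surjective _ Ideal.Quotient.mk_surjective] at this
    rw [sup_comm]
    have h8 : (⊥ : Ideal (S ⧸ b)).comap (Ideal.Quotient.mk b) = b := Ideal.mk_ker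
    rwa [h8] at this
  exact h6 _ h5 (t • f) rfl

variable (N : Type u) [AddCommGroup N] [Module S N] [Module R N] [IsScalarTower R S N]
    (M : Type u) [AddCommGroup M] [Module R M] (q : Ideal S) [hq : q.IsPrime] [hqp : q.LiesOver p]

theorem exists_finset_smul {X : Type u} [AddCommGroup X] [Module R X] (P : Ideal R) (n : X)
    (h : n ∈ P • (⊤ : Submodule R X)) : ∃ G : Finset R, (G : Set R) ⊆ P ∧ n ∈ Ideal.span (G : Set R) • (⊤ : Submodule R X) := by
  classical
  induction h using Submodule.smul_induction_on' with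
  | smul r hr n _ =>
    refine ⟨{r}, by simpa using hr, Submodule.smul_mem_smul (Ideal.subset_span (by simp)) trivial⟩
  | add x _ y _ hx hy =>
    obtain ⟨G, hG, h1⟩ := hx
    obtain ⟨G', hG', h2⟩ := hy
    refine ⟨G ∪ G', by rw [Finset.coe_union]; exact Set.union_subset hG hG', Submodule.add_mem _ ?_ ?_⟩
    · exact Submodule.smul_mono_left (Ideal.span_mono (by simp)) h1
    · exact Submodule.smul_mono_left (Ideal.span_mono (by simp)) h2

theorem backward [Algebra.FiniteType R S] [Module.Finite S N] (hflat : FlatCA.FlatAt R q N) (hM : p ∈ FlatCA.weakAss R M)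
    (hQ : FlatCA.fiberIdeal p q ∈ associatedPrimes (p.Fiber S) (FlatCA.fiberMod p S N)) :
    q ∈ FlatCA.weakAss S (N ⊗[R] M) := by
  classical
  have hmem : ∀ r : R, algebraMap R S r ∈ q ↔ r ∈ p := fun r => by
    rw [hqp.over]; rfl
  have := Flat2A.Fiber.fiber_isNoetherianRing (R := R) (S := S) p
  obtain ⟨z, hz⟩ := Flat2A.FiberEquiv.exists_annihilator p N q hQ
  obtain ⟨t₀, ht₀, n, hn⟩ := exists_smul_eq_tmul p N z
  have hnq : ∀ s : S, s ∈ q ↔ (s • n) ⊗ₜ[R] (1 : p.ResidueField) = 0 := by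
    intro s
    rw [← smul_tmul', ← hn, smul_comm, ← algebraMap_smul S t₀ (s • z), smul_smul, ← hz]
    constructor
    · exact fun h => Ideal.mul_mem_left _ _ h
    · exact fun h => (hq.mem_or_mem h).resolve_left (fun h => ht₀ ((hmem _).mp h))
  obtain ⟨F, hF, hgen⟩ := exists_finset_generators p q
  -- the finitely generated ideal
  have h1 : ∀ a ∈ F, ∃ t ∉ p, ∃ G : Finset R, (G : Set R) ⊆ p ∧
      t • a • n ∈ Ideal.span (G : Set R) • (⊤ : Submodule R N) := by
    intro a ha
    obtain ⟨t, ht, h⟩ := exists_smul_mem_of_tmul_eq_zero p N (a • n) ((hnq a).mp (hF ha))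
    obtain ⟨G, hG, h'⟩ := exists_finset_smul p _ h
    exact ⟨t, ht, G, hG, h'⟩
  choose! t ht G hG hmemG using h1
  let I : Ideal R := Ideal.span ((F.biUnion G : Finset R) : Set R)
  have hI : I ≤ p := by
    rw [Ideal.span_le]
    intro x hx
    rw [Finset.mem_coe, Finset.mem_biUnion] at hx
    obtain ⟨a, ha, h⟩ := hx
    exact hG a ha h
  obtain ⟨m₀, hm₀⟩ := (mem_weakAss_iff p).mp hM
  obtain ⟨m, hm, hIm⟩ := exists_killed_fg p I hI ⟨_, rfl⟩ m₀ hm₀
  rw [mem_weakAss_iff]
  refine ⟨n ⊗ₜ m, fun s hs => ?_, fun f hf => ?_⟩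
  · -- flatness
    let K : Ideal R := LinearMap.ker (LinearMap.toSpanSingleton R M m)
    let ψ : (R ⧸ K) →ₗ[R] M := K.liftQ (LinearMap.toSpanSingleton R M m) le_rfl
    have hψ : Function.Injective ψ := by
      rw [← LinearMap.ker_eq_bot]
      exact Submodule.ker_liftQ_eq_bot _ _ _ le_rfl
    have hψ1 : ψ 1 = m := by
      change (LinearMap.toSpanSingleton R M m) 1 = m
      simp
    obtain ⟨s', hs', h2⟩ := exists_smul_eq_zero q hflat ψ hψ ((s • n) ⊗ₜ[R] (1 : R ⧸ K)) (by
      rw [LinearMap.lTensor_tmul, hψ1, ← smul_tmul', hs])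
    have hKp : K ≤ p := fun r hr => hm.1 r hr
    let θ : (R ⧸ K) →ₗ[R] p.ResidueField := K.liftQ (Algebra.linearMap R p.ResidueField) (fun r hr => by
      rw [LinearMap.mem_ker]
      exact Ideal.algebraMap_residueField_eq_zero.mpr (hKp hr))
    have hθ1 : θ 1 = 1 := by
      change algebraMap R p.ResidueField 1 = 1
      exact map_one _
    have h3 := congrArg (θ.lTensor N) h2
    rw [map_zero, smul_tmul', LinearMap.lTensor_tmul, hθ1, smul_smul] at h3
    exact (hq.mem_or_mem ((hnq _).mpr h3)).resolve_left hs'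
  · -- nilpotence
    suffices h : f ∈ (nullIdeal q (n ⊗ₜ[R] m)).radical by
      obtain ⟨k, s, hs, h⟩ := h
      exact ⟨k, s, hs, by rw [mul_smul]; exact h⟩
    obtain ⟨u, hu, hfu⟩ := hgen f hf
    have h4 : Ideal.span (F : Set S) ⊔ p.map (algebraMap R S) ≤ (nullIdeal q (n ⊗ₜ[R] m)).radical := by
      refine sup_le ?_ ?_
      · rw [Ideal.span_le]
        intro a ha
        apply Ideal.le_radical
        refine ⟨algebraMap R S (t a), fun h => ht a ha ((hmem _).mp h), ?_⟩
        rw [smul_tmul', smul_tmul', algebraMap_smul]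
        have h5 : Ideal.span (G a : Set R) • (⊤ : Submodule R N) ≤ I • (⊤ : Submodule R N) :=
          Submodule.smul_mono_left (Ideal.span_mono (by
            intro x hx
            rw [Finset.mem_coe, Finset.mem_biUnion]
            exact ⟨a, ha, hx⟩))
        have h6 : ∀ y ∈ I • (⊤ : Submodule R N), y ⊗ₜ[R] m = 0 := by
          intro y hy
          induction hy using Submodule.smul_induction_on' with
          | smul r hr n _ => rw [smul_tmul, hIm r hr, tmul_zero]
          | add x _ y _ hx hy => rw [add_tmul, hx, hy, add_zero]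
        exact h6 _ (h5 (hmemG a ha))
      · rw [Ideal.map_le_iff_le_comap]
        intro r hr
        obtain ⟨k, a, ha, h⟩ := hm.2 r hr
        refine ⟨k, algebraMap R S a, fun h => ha ((hmem _).mp h), ?_⟩
        rw [← map_pow, algebraMap_smul, algebraMap_smul, ← tmul_smul, ← tmul_smul, ← mul_smul, h, tmul_zero]
    obtain ⟨k, s, hs, h⟩ := h4 hfu
    refine ⟨k, s * algebraMap R S u ^ k, fun h => ?_, ?_⟩
    · rcases hq.mem_or_mem h with h | h
      · exact hs h
      · exact hu ((hmem _).mp (hq.mem_of_pow_mem k h))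
    · rw [Algebra.smul_def, mul_pow, mul_smul] at h
      rw [mul_smul]
      exact h

end Backward

/-- Stacks 05IG, with `N` flat at `q` only. -/
theorem mem_weakAss_tensor_iff {R S : Type u} [CommRing R] [CommRing S] [Algebra R S] [Algebra.FinitePresentation R S]
    (N : Type u) [AddCommGroup N] [Module S N] [Module R N] [IsScalarTower R S N] [Module.FinitePresentation S N]
    (M : Type u) [AddCommGroup M] [Module R M]
    (p : Ideal R) [p.IsPrime] (q : Ideal S) [q.IsPrime] [q.LiesOver p] (hflat : FlatCA.FlatAt R q N) :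
    q ∈ FlatCA.weakAss S (N ⊗[R] M) ↔
      (p ∈ FlatCA.weakAss R M ∧ FlatCA.fiberIdeal p q ∈ associatedPrimes (p.Fiber S) (FlatCA.fiberMod p S N)) :=
  ⟨forward N M p q hflat, fun h => backward p N M q hflat h.1 h.2⟩

end Groth.Agent.UnramB.WeakAssTensor
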