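import Groth.Agent.CohqB.QAffThick
import Groth.Agent.Flat2C.AffineThickening
import Groth.Agent.Flat2H.FSLift
import Mathlib.AlgebraicGeometry.Morphisms.Immersion

/-!
# The first order neighbourhood of an immersion and its universal property
-/

set_option autoImplicit false

universe u

namespace Groth.Agent.UnramB.FirstOrderNbhd

open AlgebraicGeometry CategoryTheory Limits

/-- Sections killed by `j` have product zero (over any open). -/
def SqZ {Z₀ Z : Scheme.{u}} (j : Z₀ ⟶ Z) : Prop :=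
  ∀ (V : Z.Opens) (x y : Γ(Z, V)), j.app V x = 0 → j.app V y = 0 → x * y = 0

theorem SqZ.of_ker {Z₀ Z : Scheme.{u}} (j : Z₀ ⟶ Z) [IsClosedImmersion j] (h : j.ker ^ 2 = ⊥) : SqZ j := by
  intro V x y hx hy
  apply Z.IsSheaf.section_ext
  intro z hz
  obtain ⟨_, ⟨W, hW, rfl⟩, hzW, hWV⟩ :=
    Z.isBasis_affineOpens.exists_subset_of_mem_open hz V.2
  refine ⟨W, hWV, hzW, ?_⟩
  have key : ∀ c : Γ(Z, V), j.app V c = 0 → Z.presheaf.map (homOfLE hWV).op c ∈ j.ker.ideal ⟨W, hW⟩ := by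
    intro c hc
    rw [Scheme.Hom.ker_apply, RingHom.mem_ker]
    have := ConcreteCategory.congr_hom (j.naturality (homOfLE hWV).op) c
    change j.app W (Z.presheaf.map (homOfLE hWV).op c) = 0
    refine this.trans ?_
    change Z₀.presheaf.map _ (j.app V c) = 0
    rw [hc, map_zero]
  have h1 := Ideal.mul_mem_mul (key x hx) (key y hy)
  have h2 : (j.ker ^ 2).ideal ⟨W, hW⟩ = ⊥ := by rw [h]; rfl
  rw [Scheme.IdealSheafData.ideal_pow, Pi.pow_apply, sq] at h2
  rw [h2] at h1
  change Z.presheaf.map (homOfLE hWV).op (x * y) = Z.presheaf.map (homOfLE hWV).op 0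
  rw [map_mul, map_zero]
  exact h1

theorem ker_sq_SpecMap {R S : CommRingCat.{u}} (φ : R ⟶ S) (h : RingHom.ker φ.hom ^ 2 = ⊥) :
    (Spec.map φ).ker ^ 2 = ⊥ := by
  apply Scheme.IdealSheafData.ext_of_isAffine
  rw [Scheme.IdealSheafData.ideal_pow, Pi.pow_apply, Scheme.Hom.ker_apply]
  exact Groth.Agent.Flat2H.FSLift.ker_SpecMap_appTop_pow φ 2 h

theorem surjective_SpecMap_of_ker_sq {R S : CommRingCat.{u}} (φ : R ⟶ S)
    (hφ : Function.Surjective φ.hom) (h : RingHom.ker φ.hom ^ 2 = ⊥) :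
    Surjective (Spec.map φ) := by
  refine ⟨?_⟩
  intro x
  have h : x ∈ Set.range (PrimeSpectrum.comap φ.hom) := by
    rw [range_comap_of_surjective _ _ hφ]
    intro y hy
    have : y ^ 2 ∈ x.asIdeal := by
      have h2 : y ^ 2 ∈ RingHom.ker φ.hom ^ 2 := Ideal.pow_mem_pow hy 2
      rw [h] at h2
      rw [(Submodule.mem_bot _).mp h2]
      exact x.asIdeal.zero_mem
    exact x.2.mem_of_pow_mem 2 this
  exact h

/-- The first order neighbourhood of an immersion `s : T₀ ⟶ P` with `T₀` affine. -/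
theorem exists_firstOrderNbhd {T₀ P : Scheme.{u}} (s : T₀ ⟶ P) [IsImmersion s] [IsAffine T₀] :
    ∃ (X₁ : Scheme.{u}) (k : T₀ ⟶ X₁) (h : X₁ ⟶ P), IsAffine X₁ ∧ IsClosedImmersion k ∧ Surjective k ∧
      SqZ k ∧ Mono h ∧ k ≫ h = s ∧
      ∀ (Z₀ Z : Scheme.{u}) (j : Z₀ ⟶ Z) (_ : Surjective j) (_ : SqZ j) (z : Z ⟶ P) (z₀ : Z₀ ⟶ T₀)
        (_ : j ≫ z = z₀ ≫ s), ∃ y : Z ⟶ X₁, y ≫ h = z := by
  let W := s.coborderRange
  let c : T₀ ⟶ W := s.liftCoborder
  have hc : c ≫ W.ι = s := s.liftCoborder_ι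
  let J := c.ker
  have hle : J ^ 2 ≤ J := by
    rw [sq]
    exact fun U => Ideal.mul_le_left
  let X₁ := (J ^ 2).subscheme
  let k₁ : c.image ⟶ X₁ := Scheme.IdealSheafData.inclusion hle
  have hsurj : Surjective k₁ := by
    refine ⟨fun y ↦ ?_⟩
    have hy : (J ^ 2).subschemeι y ∈ Set.range J.subschemeι := by
      rw [Scheme.IdealSheafData.range_subschemeι, ← Scheme.IdealSheafData.support_pow J 2 two_ne_zero,
        ← Scheme.IdealSheafData.range_subschemeι]
      exact ⟨y, rfl⟩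
    obtain ⟨z, hz⟩ := hy
    refine ⟨z, ?_⟩
    apply (J ^ 2).subschemeι.isEmbedding.injective
    rw [← Scheme.Hom.comp_apply, Scheme.IdealSheafData.inclusion_subschemeι]
    exact hz
  have hk₁c : IsClosedImmersion k₁ := by
    have : IsClosedImmersion (k₁ ≫ (J ^ 2).subschemeι) := by
      rw [Scheme.IdealSheafData.inclusion_subschemeι]
      infer_instance
    exact IsClosedImmersion.of_comp_isClosedImmersion k₁ (J ^ 2).subschemeι
  let k : T₀ ⟶ X₁ := c.toImage ≫ k₁
  have hk : k ≫ (J ^ 2).subschemeι = c := by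
    rw [Category.assoc, Scheme.IdealSheafData.inclusion_subschemeι]
    exact c.toImage_imageι
  have hkc : IsClosedImmersion k := inferInstance
  have hks : Surjective k := inferInstance
  have hsq : SqZ k := by
    intro V x y hx hy
    refine Groth.Agent.CohqB.QAffThick.inclusion_sq J hle V x y ?_ ?_
    all_goals
      have hinj : Function.Injective (c.toImage.app (k₁ ⁻¹ᵁ V)) :=
        (ConcreteCategory.bijective_of_isIso (c.toImage.app (k₁ ⁻¹ᵁ V))).1
      apply hinj
      rw [map_zero]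
      first | exact hx | exact hy
  refine ⟨X₁, k, (J ^ 2).subschemeι ≫ W.ι, Groth.Agent.Flat2C.AffineThickening.isAffine_of_thickening k,
    hkc, hks, hsq, inferInstance, by rw [← Category.assoc, hk, hc], ?_⟩
  intro Z₀ Z j hj hjsq z z₀ hz
  have hrange : Set.range z ⊆ Set.range W.ι := by
    rintro _ ⟨t, rfl⟩
    obtain ⟨t₀, rfl⟩ := j.surjective t
    rw [← Scheme.Hom.comp_apply, hz, ← hc]
    exact ⟨c (z₀ t₀), rfl⟩
  let z' : Z ⟶ W := IsOpenImmersion.lift W.ι z hrange
  have hz' : z' ≫ W.ι = z := IsOpenImmersion.lift_fac _ _ _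
  have hjz : j ≫ z' = z₀ ≫ c := by
    rw [← cancel_mono W.ι, Category.assoc, hz', Category.assoc, hc, hz]
  have hker : (J ^ 2).subschemeι.ker ≤ z'.ker := by
    rw [Scheme.IdealSheafData.ker_subschemeι]
    refine Scheme.IdealSheafData.le_ofIdeals_iff.mpr fun U => ?_
    rw [Scheme.IdealSheafData.ideal_pow, Pi.pow_apply, sq, Ideal.mul_le]
    have key : ∀ r ∈ J.ideal U, j.app (z' ⁻¹ᵁ U) (z'.app U r) = 0 := by
      intro r hr
      rw [Scheme.Hom.ker_apply, RingHom.mem_ker] at hr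
      have h1 := ConcreteCategory.congr_hom (Scheme.Hom.congr_app hjz U.1) r
      rw [Scheme.Hom.comp_app, Scheme.Hom.comp_app] at h1
      refine h1.trans ?_
      change Z₀.presheaf.map _ (z₀.app _ (c.app U r)) = 0
      have hr' : c.app U.1 r = 0 := hr
      rw [hr', map_zero, map_zero]
    intro r hr t ht
    rw [RingHom.mem_ker]
    change z'.app U (r * t) = 0
    rw [map_mul]
    exact hjsq _ _ _ (key r hr) (key t ht)
  refine ⟨IsClosedImmersion.lift (J ^ 2).subschemeι z' hker, ?_⟩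
  rw [IsClosedImmersion.lift_fac_assoc, hz']

end Groth.Agent.UnramB.FirstOrderNbhd
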