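import Groth.Agent.UnramB.SqZeroSplit
import Groth.Agent.UnramB.FirstOrderNbhd
import Mathlib.Algebra.TrivSqZeroExt.Basic

/-!
# Global infinitesimal lifting over affine schemes for affine-locally formally smooth morphisms
-/

set_option autoImplicit false

universe u

namespace Groth.Agent.UnramB.FSGlobalLift

open AlgebraicGeometry CategoryTheory Limits Groth.Agent.Flat2H.FSLift
  Groth.Agent.UnramB.FirstOrderNbhd

/-- Ring form of the first order neighbourhood. -/
theorem exists_firstOrderRing {R₀ : CommRingCat.{u}} {P : Scheme.{u}} (s : Spec R₀ ⟶ P) [IsImmersion s] :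
    ∃ (C : CommRingCat.{u}) (κ : C ⟶ R₀) (h : Spec C ⟶ P),
      (∀ x y : C, κ x = 0 → κ y = 0 → x * y = 0) ∧ Mono h ∧ Spec.map κ ≫ h = s ∧
      ∀ (B B₀ : CommRingCat.{u}) (q : B ⟶ B₀) (_ : Function.Surjective q.hom) (_ : RingHom.ker q.hom ^ 2 = ⊥)
        (z : Spec B ⟶ P) (z₀ : Spec B₀ ⟶ Spec R₀) (_ : Spec.map q ≫ z = z₀ ≫ s),
        ∃ y : C ⟶ B, Spec.map y ≫ h = z := by
  obtain ⟨X₁, k, h, hX, hk, hks, hsq, hm, hkh, H⟩ := exists_firstOrderNbhd s
  let C := Γ(X₁, ⊤)
  let e : X₁ ≅ Spec C := X₁.isoSpec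
  obtain ⟨κ, hκ⟩ : ∃ κ : C ⟶ R₀, Spec.map κ = k ≫ e.hom := Spec.map_surjective _
  refine ⟨C, κ, e.inv ≫ h, ?_, inferInstance, by rw [hκ]; simp [hkh], ?_⟩
  · intro x y hx hy
    have key : ∀ x : C, κ x = 0 → k.app ⊤ ((e.hom).appTop ((Scheme.ΓSpecIso C).inv x)) = 0 := by
      intro x hx
      have h1 : (Spec.map κ).appTop = (Scheme.ΓSpecIso C).hom ≫ κ ≫ (Scheme.ΓSpecIso R₀).inv := by
        rw [Scheme.ΓSpecIso_inv_naturality, Iso.hom_inv_id_assoc]
      have h2 : (Spec.map κ).appTop ((Scheme.ΓSpecIso C).inv x) = 0 := by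
        refine (ConcreteCategory.congr_hom h1 _).trans ?_
        have e1 : (Scheme.ΓSpecIso C).hom ((Scheme.ΓSpecIso C).inv x) = x :=
          congr($((Scheme.ΓSpecIso C).inv_hom_id).hom x)
        change (Scheme.ΓSpecIso R₀).inv (κ ((Scheme.ΓSpecIso C).hom ((Scheme.ΓSpecIso C).inv x))) = 0
        rw [e1, hx, map_zero]
      rw [hκ] at h2
      exact h2
    have h3 := hsq ⊤ _ _ (key x hx) (key y hy)
    rw [← map_mul, ← map_mul] at h3
    have : IsIso e.hom.appTop := inferInstanceAs (IsIso (e.hom.app ⊤))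
    have inj1 : Function.Injective e.hom.appTop := (ConcreteCategory.bijective_of_isIso e.hom.appTop).1
    have inj2 : Function.Injective (Scheme.ΓSpecIso C).inv :=
      (ConcreteCategory.bijective_of_isIso (Scheme.ΓSpecIso C).inv).1
    apply inj2
    apply inj1
    rw [h3, map_zero, map_zero]
  · intro B B₀ q hq hq2 z z₀ hz
    have : IsClosedImmersion (Spec.map q) := IsClosedImmersion.spec_of_surjective q hq
    obtain ⟨y, hy⟩ := H _ _ (Spec.map q) (surjective_SpecMap_of_ker_sq q hq hq2)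
      (SqZ.of_ker _ (ker_sq_SpecMap q hq2)) z z₀ hz
    obtain ⟨y', hy'⟩ : ∃ y' : C ⟶ B, Spec.map y' = y ≫ e.hom := Spec.map_surjective _
    exact ⟨y', by rw [hy']; simp [hy]⟩

section triv

variable {C B₀ : Type u} [CommRing C] [CommRing B₀] (ψ : C →+* B₀) {M : Type u} [AddCommGroup M]
  [Module B₀ M] [Module B₀ᵐᵒᵖ M] [IsCentralScalar B₀ M]

/-- The ring homomorphism to a trivial square zero extension given by a derivation. -/
def derivHom (D : C →+ M) (hD : ∀ x y, D (x * y) = ψ x • D y + ψ y • D x) : C →+* TrivSqZeroExt B₀ M where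
  toFun x := TrivSqZeroExt.inl (ψ x) + TrivSqZeroExt.inr (D x)
  map_one' := by
    have hD1 : D 1 = 0 := by
      have := hD 1 1
      rw [mul_one, ψ.map_one, one_smul] at this
      simpa using this
    rw [hD1, map_one, TrivSqZeroExt.inr_zero, add_zero, TrivSqZeroExt.inl_one]
  map_mul' x y := by
    rw [hD, map_mul]
    ext
    · simp
    · simp [add_comm]
  map_zero' := by
    rw [map_zero, map_zero, TrivSqZeroExt.inr_zero, add_zero, TrivSqZeroExt.inl_zero]
  map_add' x y := by
    rw [map_add, map_add]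
    ext
    · simp
    · simp

end triv

/-- Lifting of derivations from lifting of ring homomorphisms. -/
theorem exists_derivation_lift {A C B₀ : Type u} [CommRing A] [CommRing C] [CommRing B₀] (γ : A →+* C)
    (ψ : C →+* B₀) {M M' : Type u} [AddCommGroup M] [AddCommGroup M'] [Module B₀ M] [Module B₀ M']
    (F : M →ₗ[B₀] M') (hF : Function.Surjective F) (D : C →+ M')
    (hD : ∀ x y, D (x * y) = ψ x • D y + ψ y • D x) (hDγ : ∀ a, D (γ a) = 0)
    (H : ∀ (E E' : CommRingCat.{u}) (β : CommRingCat.of A ⟶ E) (q'' : E ⟶ E') (p : E' ⟶ CommRingCat.of B₀)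
      (_ : Function.Surjective q''.hom) (_ : Function.Surjective p.hom) (_ : RingHom.ker (q'' ≫ p).hom ^ 2 = ⊥)
      (_ : β ≫ q'' ≫ p = CommRingCat.ofHom (ψ.comp γ)) (θ : CommRingCat.of C ⟶ E')
      (_ : CommRingCat.ofHom γ ≫ θ = β ≫ q'') (_ : θ ≫ p = CommRingCat.ofHom ψ),
        ∃ y : CommRingCat.of C ⟶ E, y ≫ q'' = θ ∧ CommRingCat.ofHom γ ≫ y = β) :
    ∃ D' : C →+ M, (∀ x y, D' (x * y) = ψ x • D' y + ψ y • D' x) ∧ (∀ a, D' (γ a) = 0) ∧
      ∀ x, F (D' x) = D x := by
  let _ : Module B₀ᵐᵒᵖ M := Module.compHom M ((RingHom.id B₀).fromOpposite mul_comm)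
  have : IsCentralScalar B₀ M := ⟨fun _ _ => rfl⟩
  let _ : Module B₀ᵐᵒᵖ M' := Module.compHom M' ((RingHom.id B₀).fromOpposite mul_comm)
  have : IsCentralScalar B₀ M' := ⟨fun _ _ => rfl⟩
  let E := TrivSqZeroExt B₀ M
  let E' := TrivSqZeroExt B₀ M'
  let q'' : CommRingCat.of E ⟶ CommRingCat.of E' := CommRingCat.ofHom (TrivSqZeroExt.map F).toRingHom
  let p : CommRingCat.of E' ⟶ CommRingCat.of B₀ := CommRingCat.ofHom (TrivSqZeroExt.fstHom B₀ B₀ M').toRingHom
  let β : CommRingCat.of A ⟶ CommRingCat.of E :=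
    CommRingCat.ofHom ((TrivSqZeroExt.inlHom B₀ M).comp (ψ.comp γ))
  let θ : CommRingCat.of C ⟶ CommRingCat.of E' := CommRingCat.ofHom (derivHom ψ D hD)
  have hq : ∀ x : E, q''.hom x = TrivSqZeroExt.map F x := fun x => rfl
  have g1 : Function.Surjective q''.hom := by
    intro x
    obtain ⟨m', hm'⟩ := hF (x : E').snd
    refine ⟨((TrivSqZeroExt.inl (x : E').fst + TrivSqZeroExt.inr m' : E)), ?_⟩
    change TrivSqZeroExt.map F _ = _
    rw [map_add, TrivSqZeroExt.map_inl, TrivSqZeroExt.map_inr, hm']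
    exact TrivSqZeroExt.inl_fst_add_inr_snd_eq (x : E')
  have g2 : Function.Surjective p.hom := fun x => ⟨TrivSqZeroExt.inl x, rfl⟩
  have hqp : ∀ x : E, (q'' ≫ p).hom x = x.fst := fun x => TrivSqZeroExt.fst_map F x
  have g3 : RingHom.ker (q'' ≫ p).hom ^ 2 = ⊥ := by
    rw [eq_bot_iff, sq, Ideal.mul_le]
    intro x hx z hz
    have hx' : (x : E).fst = 0 := (hqp x).symm.trans hx
    have hz' : (z : E).fst = 0 := (hqp z).symm.trans hz
    change (x : E) * (z : E) = 0
    ext
    · rw [TrivSqZeroExt.fst_mul, hx', zero_mul]; rfl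
    · rw [TrivSqZeroExt.snd_mul, hx', hz']; simp
  have g4 : β ≫ q'' ≫ p = CommRingCat.ofHom (ψ.comp γ) := by
    ext x
    exact hqp _
  have g5 : CommRingCat.ofHom γ ≫ θ = β ≫ q'' := by
    apply CommRingCat.hom_ext
    apply RingHom.ext
    intro x
    change derivHom ψ D hD (γ x) = TrivSqZeroExt.map F ((TrivSqZeroExt.inlHom B₀ M) (ψ (γ x)))
    ext
    · simp [derivHom]
    · simp [derivHom, hDγ]
  have g6 : θ ≫ p = CommRingCat.ofHom ψ := by
    ext x
    change (derivHom ψ D hD x).fst = ψ x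
    simp [derivHom]
  obtain ⟨y, hy1, hy2⟩ := H (CommRingCat.of E) (CommRingCat.of E') β q'' p g1 g2 g3 g4 θ g5 g6
  · have hfst : ∀ x, (y.hom x : E).fst = ψ x := by
      intro x
      have h1 : TrivSqZeroExt.map F (y.hom x : E) = derivHom ψ D hD x := congr($(hy1).hom x)
      have h2 := congr_arg TrivSqZeroExt.fst h1
      simpa [derivHom] using h2
    have hsnd : ∀ x, F (y.hom x : E).snd = D x := by
      intro x
      have h1 : TrivSqZeroExt.map F (y.hom x : E) = derivHom ψ D hD x := congr($(hy1).hom x)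
      have h2 := congr_arg TrivSqZeroExt.snd h1
      simpa [derivHom] using h2
    refine ⟨{ toFun := fun x => (y.hom x : E).snd, map_zero' := ?_, map_add' := ?_ }, ?_, ?_, hsnd⟩
    · rw [map_zero]; rfl
    · intro x z
      rw [map_add]; rfl
    · intro x z
      change (y.hom (x * z) : E).snd = _
      rw [map_mul]
      change ((y.hom x : E) * (y.hom z : E)).snd = _
      rw [TrivSqZeroExt.snd_mul, hfst, hfst, op_smul_eq_smul]
      rfl
    · intro a
      have h1 : (y.hom (γ a) : E) = (TrivSqZeroExt.inlHom B₀ M) (ψ (γ a)) := congr($(hy2).hom a)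
      change (y.hom (γ a) : E).snd = 0
      rw [h1]
      rfl

section main

variable {X Y : Scheme.{u}} (f : X ⟶ Y) (hf : AffLocFS f) (A : Type u) [CommRing A] (I : Ideal A)
  (a : Spec (CommRingCat.of (A ⧸ I)) ⟶ X) (b : Spec (CommRingCat.of A) ⟶ Y)
  (w : Spec.map (CommRingCat.ofHom (Ideal.Quotient.mk I)) ≫ b = a ≫ f)

include hf in
/-- The lifting lemma for maps out of the first order neighbourhood. -/
theorem lift_step {C : CommRingCat.{u}} (κ : C ⟶ CommRingCat.of (A ⧸ I)) (h : Spec C ⟶ pullback f b)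
    [Mono h] (hκ : Spec.map κ ≫ h = pullback.lift a (Spec.map (CommRingCat.ofHom (Ideal.Quotient.mk I))) w.symm)
    (H : ∀ (B B₀ : CommRingCat.{u}) (q : B ⟶ B₀) (_ : Function.Surjective q.hom) (_ : RingHom.ker q.hom ^ 2 = ⊥)
        (z : Spec B ⟶ pullback f b) (z₀ : Spec B₀ ⟶ Spec (CommRingCat.of (A ⧸ I)))
        (_ : Spec.map q ≫ z = z₀ ≫ pullback.lift a (Spec.map (CommRingCat.ofHom (Ideal.Quotient.mk I))) w.symm),
        ∃ y : C ⟶ B, Spec.map y ≫ h = z)
    (γ : CommRingCat.of A ⟶ C) (hγ : Spec.map γ = h ≫ pullback.snd f b)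
    (B B'' B₀ : CommRingCat.{u}) (β : CommRingCat.of A ⟶ B) (q'' : B ⟶ B'') (p : B'' ⟶ B₀)
    (u : CommRingCat.of (A ⧸ I) ⟶ B₀)
    (hq'' : Function.Surjective q''.hom) (hp : Function.Surjective p.hom)
    (hker : RingHom.ker (q'' ≫ p).hom ^ 2 = ⊥)
    (hu : β ≫ q'' ≫ p = CommRingCat.ofHom (Ideal.Quotient.mk I) ≫ u)
    (θ : C ⟶ B'') (hθγ : γ ≫ θ = β ≫ q'') (hθp : θ ≫ p = κ ≫ u)
    (U : X.Opens) (V : Y.Opens) (hU : IsAffineOpen U) (hV : IsAffineOpen V) (hUV : U ≤ f ⁻¹ᵁ V)
    (haU : (Spec.map u ≫ a) ⁻¹ᵁ U = ⊤) (hbV : (Spec.map (β ≫ q'' ≫ p) ≫ b) ⁻¹ᵁ V = ⊤) :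
    ∃ y : C ⟶ B, y ≫ q'' = θ ∧ γ ≫ y = β := by
  have hq : Function.Surjective (q'' ≫ p).hom := by
    rw [CommRingCat.hom_comp]
    exact hp.comp hq''
  have hkerq'' : RingHom.ker q''.hom ^ 2 = ⊥ := by
    rw [eq_bot_iff, ← hker]
    refine Ideal.pow_right_mono ?_ 2
    intro x hx
    change p.hom (q''.hom x) = 0
    have : q''.hom x = 0 := hx
    rw [this, map_zero]
  have hkerp : RingHom.ker p.hom ^ 2 = ⊥ := by
    rw [eq_bot_iff, sq, Ideal.mul_le]
    intro x hx y hy
    obtain ⟨x', rfl⟩ := hq'' x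
    obtain ⟨y', rfl⟩ := hq'' y
    have h1 : x' * y' ∈ RingHom.ker (q'' ≫ p).hom ^ 2 := by
      rw [sq]
      exact Ideal.mul_mem_mul hx hy
    rw [hker] at h1
    have h2 : x' * y' = 0 := h1
    change q''.hom x' * q''.hom y' ∈ (⊥ : Ideal B'')
    rw [← map_mul, h2, map_zero]
    exact Ideal.zero_mem _
  have hsurjp := surjective_SpecMap_of_ker_sq p hp hkerp
  have hsurjq := surjective_SpecMap_of_ker_sq (q'' ≫ p) hq hker
  let s := pullback.lift a (Spec.map (CommRingCat.ofHom (Ideal.Quotient.mk I))) w.symm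
  have hs1 : s ≫ pullback.fst f b = a := pullback.lift_fst _ _ _
  have hs2 : s ≫ pullback.snd f b = Spec.map (CommRingCat.ofHom (Ideal.Quotient.mk I)) := pullback.lift_snd _ _ _
  let a' : Spec B'' ⟶ X := Spec.map θ ≫ h ≫ pullback.fst f b
  let b' : Spec B ⟶ Y := Spec.map β ≫ b
  have hpa' : Spec.map p ≫ a' = Spec.map u ≫ a := by
    simp only [a']
    rw [← Spec.map_comp_assoc, hθp, Spec.map_comp_assoc, reassoc_of% hκ, hs1]
  have hw' : Spec.map q'' ≫ b' = a' ≫ f := by
    simp only [a', b', Category.assoc, pullback.condition]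
    rw [← Spec.map_comp_assoc, ← hθγ, Spec.map_comp_assoc, hγ, Category.assoc]
  have : IsClosedImmersion (Spec.map q'') := IsClosedImmersion.spec_of_surjective q'' hq''
  obtain ⟨l, hl1, hl2, -⟩ := exists_lift_of_affine f (Spec.map q'')
    ⟨2, ker_SpecMap_appTop_pow q'' 2 hkerq''⟩ a' b' hw' U V hU hV hUV
    (by
      rw [← top_le_iff]
      rintro x -
      obtain ⟨x₀, rfl⟩ := (Spec.map p).surjective x
      change a' (Spec.map p x₀) ∈ U
      rw [← Scheme.Hom.comp_apply, hpa']
      exact haU.ge (Set.mem_univ x₀))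
    (by
      rw [← top_le_iff]
      rintro x -
      obtain ⟨x₀, rfl⟩ := (Spec.map (q'' ≫ p)).surjective x
      change b' (Spec.map (q'' ≫ p) x₀) ∈ V
      rw [← Scheme.Hom.comp_apply]
      have : Spec.map (q'' ≫ p) ≫ b' = Spec.map (β ≫ q'' ≫ p) ≫ b := by
        simp only [b']
        rw [Spec.map_comp β, Category.assoc]
      rw [this]
      exact hbV.ge (Set.mem_univ x₀))
    (hf U V hU hV hUV)
  let z : Spec B ⟶ pullback f b := pullback.lift l (Spec.map β) hl2
  have hz1 : z ≫ pullback.fst f b = l := pullback.lift_fst _ _ _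
  have hz2 : z ≫ pullback.snd f b = Spec.map β := pullback.lift_snd _ _ _
  obtain ⟨y, hy⟩ := H B B₀ (q'' ≫ p) hq hker z (Spec.map u) (by
    apply pullback.hom_ext
    · rw [Category.assoc, hz1, Category.assoc, pullback.lift_fst, Spec.map_comp, Category.assoc, hl1, hpa']
    · rw [Category.assoc, hz2, Category.assoc, pullback.lift_snd, ← Spec.map_comp, ← Spec.map_comp, hu])
  refine ⟨y, ?_, ?_⟩
  · apply Spec.map_injective
    rw [← cancel_mono h, Spec.map_comp, Category.assoc, hy]
    apply pullback.hom_ext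
    · rw [Category.assoc, hz1, Category.assoc, hl1]
    · rw [Category.assoc, hz2, Category.assoc, ← hγ, ← Spec.map_comp, ← Spec.map_comp, hθγ]
  · apply Spec.map_injective
    rw [Spec.map_comp, hγ, ← Category.assoc, hy, hz2]

include hf w in
/-- Infinitesimal lifting for affine-locally formally smooth morphisms. -/
theorem exists_lift (hI : I ^ 2 = ⊥) : ∃ l : Spec (CommRingCat.of A) ⟶ X,
    Spec.map (CommRingCat.ofHom (Ideal.Quotient.mk I)) ≫ l = a ∧ l ≫ f = b := by
  have hmk : Function.Surjective (CommRingCat.ofHom (Ideal.Quotient.mk I)).hom := Ideal.Quotient.mk_surjective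
  have : IsClosedImmersion (Spec.map (CommRingCat.ofHom (Ideal.Quotient.mk I))) :=
    IsClosedImmersion.spec_of_surjective _ hmk
  have hi := surjective_SpecMap_mk A I hI
  let s : Spec (CommRingCat.of (A ⧸ I)) ⟶ pullback f b :=
    pullback.lift a (Spec.map (CommRingCat.ofHom (Ideal.Quotient.mk I))) w.symm
  have hs1 : s ≫ pullback.fst f b = a := pullback.lift_fst _ _ _
  have hs2 : s ≫ pullback.snd f b = Spec.map (CommRingCat.ofHom (Ideal.Quotient.mk I)) := pullback.lift_snd _ _ _
  have : IsImmersion s := by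
    have : IsImmersion (s ≫ pullback.snd f b) := by rw [hs2]; infer_instance
    exact IsImmersion.of_comp s (pullback.snd f b)
  obtain ⟨C, κ, h, hK, hm, hκ, H⟩ := exists_firstOrderRing s
  obtain ⟨γ, hγ⟩ : ∃ γ : CommRingCat.of A ⟶ C, Spec.map γ = h ≫ pullback.snd f b := Spec.map_surjective _
  have hγκ : γ ≫ κ = CommRingCat.ofHom (Ideal.Quotient.mk I) := by
    apply Spec.map_injective
    rw [Spec.map_comp, hγ, reassoc_of% hκ, hs2]
  -- the cover
  have hcov : ∀ t : Spec (CommRingCat.of A), ∃ g : A, t ∈ PrimeSpectrum.basicOpen g ∧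
      ∃ (U : X.Opens) (V : Y.Opens), IsAffineOpen U ∧ IsAffineOpen V ∧ U ≤ f ⁻¹ᵁ V ∧
        (∀ x : Spec (CommRingCat.of A), x ∈ PrimeSpectrum.basicOpen g → b x ∈ V) ∧
        (∀ x : Spec (CommRingCat.of (A ⧸ I)),
          Spec.map (CommRingCat.ofHom (Ideal.Quotient.mk I)) x ∈ PrimeSpectrum.basicOpen g → a x ∈ U) := by
    intro t
    obtain ⟨t₀, rfl⟩ := (Spec.map (CommRingCat.ofHom (Ideal.Quotient.mk I))).surjective t
    let i := Spec.map (CommRingCat.ofHom (Ideal.Quotient.mk I))
    obtain ⟨_, ⟨V, hV, rfl⟩, hxV, -⟩ :=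
      Y.isBasis_affineOpens.exists_subset_of_mem_open (Set.mem_univ (b (i t₀))) isOpen_univ
    have hxV' : f (a t₀) ∈ V := by
      have : f (a t₀) = b (i t₀) := by
        rw [← Scheme.Hom.comp_apply, ← Scheme.Hom.comp_apply, w]
      rw [this]; exact hxV
    obtain ⟨_, ⟨U, hU, rfl⟩, hxU, hUV : U ≤ f ⁻¹ᵁ V⟩ :=
      X.isBasis_affineOpens.exists_subset_of_mem_open (a := a t₀) hxV' (f ⁻¹ᵁ V).isOpen
    obtain ⟨O, hO, hO'⟩ := i.isClosedEmbedding.isInducing.isOpen_iff.mp (a ⁻¹ᵁ U).isOpen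
    have htO : i t₀ ∈ O := by
      have : t₀ ∈ i ⁻¹' O := by rw [hO']; exact hxU
      exact this
    obtain ⟨_, ⟨g, rfl⟩, hxg, hgle⟩ := PrimeSpectrum.isTopologicalBasis_basic_opens.exists_subset_of_mem_open
      (a := i t₀) (show i t₀ ∈ (O ∩ (b ⁻¹ᵁ V : (Spec (CommRingCat.of A)).Opens) : Set _) from ⟨htO, hxV⟩)
      (hO.inter (b ⁻¹ᵁ V).isOpen)
    refine ⟨g, hxg, U, V, hU, hV, hUV, fun x hx => (hgle hx).2, fun x hx => ?_⟩
    have h1 : x ∈ i ⁻¹' O := (hgle hx).1
    rw [hO'] at h1
    exact h1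
  let G : Set A := {g | ∃ (U : X.Opens) (V : Y.Opens), IsAffineOpen U ∧ IsAffineOpen V ∧ U ≤ f ⁻¹ᵁ V ∧
        (∀ x : Spec (CommRingCat.of A), x ∈ PrimeSpectrum.basicOpen g → b x ∈ V) ∧
        (∀ x : Spec (CommRingCat.of (A ⧸ I)),
          Spec.map (CommRingCat.ofHom (Ideal.Quotient.mk I)) x ∈ PrimeSpectrum.basicOpen g → a x ∈ U)}
  have hG : Ideal.span G = ⊤ := by
    by_contra hne
    obtain ⟨m, hm, hle⟩ := Ideal.exists_le_maximal _ hne
    obtain ⟨g, hg, hg'⟩ := hcov (⟨m, hm.isPrime⟩ : PrimeSpectrum A)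
    exact hg (hle (Ideal.subset_span hg'))
  obtain ⟨G', hG', hspan⟩ := (Ideal.span_eq_top_iff_finite G).mp hG
  algebraize [γ.hom]
  let π : C →ₐ[A] A ⧸ I := { toRingHom := κ.hom, commutes' := fun x => congr($(hγκ).hom x) }
  have hbasic : ∀ {B₀ : CommRingCat.{u}} (φ : CommRingCat.of A ⟶ B₀) (g : A) (_ : IsUnit (φ.hom g))
      (x : Spec B₀), Spec.map φ x ∈ PrimeSpectrum.basicOpen g := by
    intro B₀ φ g hg x hx
    exact x.2.ne_top (Ideal.eq_top_of_isUnit_mem _ hx hg)
  have hrange : Ideal.span (Set.range fun g : G' => (g : A)) = ⊤ := by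
    convert hspan
    ext x
    simp
  obtain ⟨r, hr⟩ := SqZeroSplit.exists_retraction I π (fun x y hx hy => hK x y hx hy)
    (fun g : G' => (g : A)) hrange (by
      rintro ⟨g, hg⟩
      obtain ⟨U, V, hU, hV, hUV, hb, ha⟩ := hG' hg
      let u : CommRingCat.of (A ⧸ I) ⟶ CommRingCat.of (Localization.Away (Ideal.Quotient.mk I g)) :=
        CommRingCat.ofHom (algebraMap _ _)
      let β : CommRingCat.of A ⟶ CommRingCat.of (Localization.Away g) := CommRingCat.ofHom (algebraMap _ _)
      let q'' : CommRingCat.of (Localization.Away g) ⟶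
          CommRingCat.of (Localization.Away (Ideal.Quotient.mk I g)) :=
        CommRingCat.ofHom (Localization.awayMap (Ideal.Quotient.mk I) g)
      have hq'' : Function.Surjective q''.hom := by
        refine Localization.awayMap_surjective_iff.mpr fun x => ?_
        obtain ⟨y, rfl⟩ := Ideal.Quotient.mk_surjective x
        exact ⟨y, 0, by simp⟩
      have hker : RingHom.ker q''.hom ^ 2 = ⊥ := by
        have h1 : RingHom.ker q''.hom = (RingHom.ker (Ideal.Quotient.mk I)).map (algebraMap A (Localization.Away g)) :=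
          IsLocalization.ker_map (Localization.Away (Ideal.Quotient.mk I g)) (Ideal.Quotient.mk I)
            (Submonoid.map_powers (Ideal.Quotient.mk I) g)
        rw [h1, Ideal.mk_ker, ← Ideal.map_pow, hI, Ideal.map_bot]
      have hu : β ≫ q'' = CommRingCat.ofHom (Ideal.Quotient.mk I) ≫ u := by
        ext x
        change Localization.awayMap (Ideal.Quotient.mk I) g (algebraMap A (Localization.Away g) x) =
          algebraMap (A ⧸ I) (Localization.Away (Ideal.Quotient.mk I g)) (Ideal.Quotient.mk I x)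
        simp [Localization.awayMap, IsLocalization.Away.map]
      obtain ⟨y, -, hy⟩ := lift_step f hf A I a b w κ h hκ H γ hγ (CommRingCat.of (Localization.Away g))
        (CommRingCat.of (Localization.Away (Ideal.Quotient.mk I g)))
        (CommRingCat.of (Localization.Away (Ideal.Quotient.mk I g))) β q'' (𝟙 _) u hq''
        Function.surjective_id (by rw [Category.comp_id]; exact hker) (by rw [Category.comp_id, hu])
        (κ ≫ u) (by rw [reassoc_of% hγκ, hu]) (Category.comp_id _) U V hU hV hUV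
        (by
          rw [← top_le_iff]
          rintro x -
          refine ha _ ?_
          have h3 := hbasic (CommRingCat.ofHom (Ideal.Quotient.mk I) ≫ u) g
            (IsLocalization.Away.algebraMap_isUnit (Ideal.Quotient.mk I g)) x
          rw [Spec.map_comp, Scheme.Hom.comp_apply] at h3
          exact h3)
        (by
          rw [← top_le_iff]
          rintro x -
          refine hb _ ?_
          refine hbasic _ g ?_ x
          rw [Category.comp_id, hu]
          exact IsLocalization.Away.algebraMap_isUnit (Ideal.Quotient.mk I g))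
      exact ⟨{ toRingHom := y.hom, commutes' := fun x => congr($(hy).hom x) }⟩) (by
      rintro ⟨g, hg⟩ M M' _ _ _ _ _ _ _ _ _ _ _ _ F hF D hD
      obtain ⟨U, V, hU, hV, hUV, hb, ha⟩ := hG' hg
      let u : CommRingCat.of (A ⧸ I) ⟶ CommRingCat.of (Localization.Away (Ideal.Quotient.mk I g)) :=
        CommRingCat.ofHom (algebraMap _ _)
      have hDγ : ∀ x : A, D (algebraMap A C x) = 0 := by
        have hD1 : D 1 = 0 := by
          have := hD 1 1
          have hπ1 : π 1 = 1 := map_one π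
          rw [mul_one, hπ1, one_smul] at this
          simpa using this
        intro x
        rw [Algebra.algebraMap_eq_smul_one, map_smul, hD1, smul_zero]
      obtain ⟨D', hD', hD'γ, hFD⟩ := exists_derivation_lift γ.hom (κ ≫ u).hom F hF D.toAddMonoidHom
        (fun x y => by
          refine (hD x y).trans ?_
          congr 1
          · exact (algebraMap_smul (Localization.Away (Ideal.Quotient.mk I g)) (π x) (D y)).symm
          · exact (algebraMap_smul (Localization.Away (Ideal.Quotient.mk I g)) (π y) (D x)).symm)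
        hDγ (by
          intro E E' β q'' p hq'' hp hker hβ θ hθγ hθp
          refine lift_step f hf A I a b w κ h hκ H γ hγ E E' _ β q'' p u hq'' hp hker ?_ θ hθγ hθp U V hU hV hUV
            ?_ ?_
          · rw [hβ, ← hγκ]
            rfl
          · rw [← top_le_iff]
            rintro x -
            refine ha _ ?_
            have h3 := hbasic (CommRingCat.ofHom (Ideal.Quotient.mk I) ≫ u) g
              (IsLocalization.Away.algebraMap_isUnit (Ideal.Quotient.mk I g)) x
            rw [Spec.map_comp, Scheme.Hom.comp_apply] at h3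
            exact h3
          · rw [← top_le_iff]
            rintro x -
            refine hb _ ?_
            refine hbasic _ g ?_ x
            rw [hβ]
            have h4 : (κ ≫ u).hom.comp γ.hom = (CommRingCat.ofHom (Ideal.Quotient.mk I) ≫ u).hom := by
              rw [← hγκ]; rfl
            rw [h4]
            exact IsLocalization.Away.algebraMap_isUnit (Ideal.Quotient.mk I g))
      refine ⟨{ toFun := D', map_add' := map_add D', map_smul' := fun x y => ?_ }, fun x y => ?_, hFD⟩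
      · have h5 : x • y = γ.hom x * y := Algebra.smul_def x y
        rw [h5, hD', hD'γ, smul_zero, add_zero]
        have h6 : (κ ≫ u).hom (γ.hom x) = algebraMap (A ⧸ I) _ (Ideal.Quotient.mk I x) := by
          have := congr($(hγκ).hom x)
          exact congr_arg u.hom this
        rw [h6, algebraMap_smul]
        exact algebraMap_smul (A ⧸ I) x (D' y)
      · refine (hD' x y).trans ?_
        congr 1
        · exact algebraMap_smul (Localization.Away (Ideal.Quotient.mk I g)) (π x) (D' y)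
        · exact algebraMap_smul (Localization.Away (Ideal.Quotient.mk I g)) (π y) (D' x))
  refine ⟨Spec.map (CommRingCat.ofHom r.toRingHom) ≫ h ≫ pullback.fst f b, ?_, ?_⟩
  · have h1 : CommRingCat.ofHom r.toRingHom ≫ CommRingCat.ofHom (Ideal.Quotient.mk I) = κ := by
      ext x
      exact hr x
    rw [← Spec.map_comp_assoc, h1, reassoc_of% hκ, hs1]
  · have h1 : γ ≫ CommRingCat.ofHom r.toRingHom = 𝟙 _ := by
      ext x
      exact r.commutes x
    rw [Category.assoc, Category.assoc, pullback.condition, ← reassoc_of% hγ, ← Spec.map_comp_assoc, h1,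
      Spec.map_id, Category.id_comp]

end main

end Groth.Agent.UnramB.FSGlobalLift
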