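import Groth.Agent.VarietyB.KrullAkizuki
import Mathlib.RingTheory.Valuation.LocalSubring
import Mathlib.RingTheory.Ideal.KrullsHeightTheorem
import Mathlib.RingTheory.DiscreteValuationRing.TFAE
import Mathlib.RingTheory.Ideal.AssociatedPrime.Basic

/-!
# Discrete valuation rings and integral closure of a Noetherian domain

* `exists_dvr_notMem`: if `A` is a Noetherian domain with fraction field `K` and `y : K` is not integral over
  `A`, then there is a discrete valuation ring `V` of `K` containing `A` with `y ∉ V`.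
* `exists_finset_dvr`: for a finitely generated `A`-submodule `N` of `K` there are finitely many discrete
  valuation rings `V ⊇ A` of `K` such that `N ∩ ⋂ V` consists of integral elements.
-/

set_option autoImplicit false

universe u v

namespace Groth.Agent.UnramB.DvrHull

open IsLocalRing

/-- If `S` is a Noetherian subring of the field `K` with fraction field `K` and `x ∈ S` is a non-unit of `S`,
`x ≠ 0`, then there is a discrete valuation ring `V` of `K` containing `S` such that `x` is not a unit in `V`. -/
theorem exists_dvr_of_nonunit {K : Type v} [Field K] (S : Subring K) [IsNoetherianRing S]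
    [IsFractionRing S K] (x : S) (hx : ¬ IsUnit x) (hx0 : x ≠ 0) :
    ∃ V : ValuationSubring K, IsDiscreteValuationRing V ∧ S ≤ V.toSubring ∧ (x : K)⁻¹ ∉ V := by
  obtain ⟨Q, hQ⟩ := (Ideal.span {x}).nonempty_minimalPrimes (by simpa using hx)
  have hQp : Q.IsPrime := hQ.isPrime
  have hh : Q.height ≤ 1 := Ideal.height_le_one_of_isPrincipal_of_mem_minimalPrimes _ _ hQ
  have hxQ : x ∈ Q := hQ.1.2 (Ideal.mem_span_singleton_self x)
  let L := LocalSubring.ofPrime S Q
  have hL : IsLocalization.AtPrime L.toSubring Q := inferInstance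
  have hnoeth : IsNoetherianRing L.toSubring :=
    IsLocalization.isNoetherianRing Q.primeCompl L.toSubring inferInstance
  have hfr : IsFractionRing L.toSubring K :=
    IsFractionRing.isFractionRing_of_isDomain_of_isLocalization Q.primeCompl L.toSubring K
  have hdim : Ring.KrullDimLE 1 L.toSubring := by
    rw [Ring.KrullDimLE, Order.krullDimLE_iff]
    have := IsLocalization.AtPrime.ringKrullDim_eq_height Q L.toSubring
    change ringKrullDim L.toSubring ≤ _
    rw [this]
    exact_mod_cast hh
  obtain ⟨V, hV⟩ := L.exists_le_valuationSubring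
  have hxL : ¬ IsUnit (algebraMap S L.toSubring x) := by
    rw [IsLocalization.AtPrime.isUnit_to_map_iff L.toSubring Q x]
    exact fun h => h hxQ
  have hxV : ¬ IsUnit (Subring.inclusion hV.1 (algebraMap S L.toSubring x)) := fun h =>
    hxL (hV.2.1 _ h)
  let : Algebra L.toSubring V := (Subring.inclusion hV.1).toAlgebra
  have : IsScalarTower L.toSubring V K := IsScalarTower.of_algebraMap_eq fun _ => rfl
  have hVn : IsNoetherianRing V :=
    Groth.Agent.VarietyB.KrullAkizuki.krullAkizuki (R := L.toSubring) (K := K) (L := K)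
      (A := V) Subtype.val_injective
  refine ⟨V, ?_, (LocalSubring.le_ofPrime S Q).trans hV.1, ?_⟩
  · have hnf : ¬ IsField V := by
      intro hf
      apply hxV
      have hne : Subring.inclusion hV.1 (algebraMap S L.toSubring x) ≠ 0 := by
        intro h0
        apply hx0
        have := congrArg Subtype.val h0
        exact Subtype.ext this
      obtain ⟨b, hb⟩ := hf.mul_inv_cancel hne
      exact IsUnit.of_mul_eq_one b hb
    have h1 := (IsDiscreteValuationRing.TFAE V hnf).out 0 1
    exact h1.2 (inferInstance : ValuationRing V)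
  · intro hinv
    apply hxV
    refine IsUnit.of_mul_eq_one (⟨(x : K)⁻¹, hinv⟩ : V) ?_
    apply Subtype.ext
    change (x : K) * (x : K)⁻¹ = 1
    exact mul_inv_cancel₀ (fun h => hx0 (Subtype.ext h))

variable {A : Type u} {K : Type v} [CommRing A] [IsDomain A] [IsNoetherianRing A] [Field K]
  [Algebra A K] [IsFractionRing A K]

/-- If `A` is a Noetherian domain with fraction field `K` and `y : K` is not integral over
`A`, then there is a discrete valuation ring `V` of `K` containing `A` with `y ∉ V`. -/
theorem exists_dvr_notMem (y : K) (hy : ¬ IsIntegral A y) :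
    ∃ V : ValuationSubring K, IsDiscreteValuationRing V ∧ (∀ a : A, algebraMap A K a ∈ V) ∧
      y ∉ V := by
  have hy0 : y ≠ 0 := by
    rintro rfl
    exact hy isIntegral_zero
  let S : Subring K := (Algebra.adjoin A {y⁻¹}).toSubring
  have hS : IsNoetherianRing S := by
    have : Algebra.FiniteType A (Algebra.adjoin A ({y⁻¹} : Set K)) :=
      (Subalgebra.fg_iff_finiteType _).1 ⟨{y⁻¹}, by simp⟩
    exact Algebra.FiniteType.isNoetherianRing A (Algebra.adjoin A ({y⁻¹} : Set K))
  have hfr : IsFractionRing S K := by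
    refine IsFractionRing.of_field S K fun z => ?_
    obtain ⟨a, b, hb, rfl⟩ := IsFractionRing.div_surjective (A := A) z
    exact ⟨⟨algebraMap A K a, (Algebra.adjoin A {y⁻¹}).algebraMap_mem a⟩,
      ⟨algebraMap A K b, (Algebra.adjoin A {y⁻¹}).algebraMap_mem b⟩, rfl⟩
  let x : S := ⟨y⁻¹, Algebra.subset_adjoin rfl⟩
  have hx0 : x ≠ 0 := fun h => inv_ne_zero hy0 (congrArg Subtype.val h)
  have hx : ¬ IsUnit x := by
    intro h
    apply hy
    have hspan : Ideal.span ({⟨y⁻¹, Algebra.subset_adjoin rfl⟩} :
        Set (Algebra.adjoin A ({y⁻¹} : Set K))) = ⊤ := Ideal.span_singleton_eq_top.2 h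
    let := invertibleOfNonzero (inv_ne_zero hy0)
    obtain ⟨p, hp, hpx⟩ := Algebra.exists_aeval_invOf_eq_zero_of_idealMap_adjoin_sup_span_eq_top
      (y⁻¹ : K) (⊥ : Ideal A) bot_ne_top (top_unique <| hspan.ge.trans le_sup_right)
    refine ⟨p, ?_, ?_⟩
    · simpa [Polynomial.Monic, sub_eq_zero] using hp
    · rw [invOf_eq_inv, inv_inv] at hpx
      exact hpx
  obtain ⟨V, hV1, hV2, hV3⟩ := exists_dvr_of_nonunit S x hx hx0
  refine ⟨V, hV1, fun a => hV2 ((Algebra.adjoin A {y⁻¹}).algebraMap_mem a), ?_⟩
  have : ((x : K))⁻¹ = y := inv_inv y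
  rwa [this] at hV3

/-- If `s • y` is not integral over `A` for all `s` outside the prime `p`, then there is a discrete valuation
ring `V` of `K` containing `A`, with `y ∉ V`, in which all `s ∉ p` are invertible. -/
theorem exists_dvr_notMem_prime (p : Ideal A) [p.IsPrime] (y : K)
    (hy : ∀ s : A, s ∉ p → ¬ IsIntegral A (s • y)) :
    ∃ V : ValuationSubring K, IsDiscreteValuationRing V ∧ (∀ a : A, algebraMap A K a ∈ V) ∧
      (∀ s : A, s ∉ p → (algebraMap A K s)⁻¹ ∈ V) ∧ y ∉ V := by
  have hunit : ∀ s : p.primeCompl, IsUnit (algebraMap A K s) := by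
    intro s
    refine IsUnit.mk0 _ fun h0 => s.2 ?_
    have : (s : A) = 0 := (IsFractionRing.injective A K) (by rw [h0, map_zero])
    rw [this]
    exact p.zero_mem
  let : Algebra (Localization.AtPrime p) K :=
    (IsLocalization.lift (M := p.primeCompl) (S := Localization.AtPrime p) hunit).toAlgebra
  have : IsScalarTower A (Localization.AtPrime p) K := by
    refine IsScalarTower.of_algebraMap_eq fun a => ?_
    exact (IsLocalization.lift_eq hunit a).symm
  have : IsFractionRing (Localization.AtPrime p) K :=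
    IsFractionRing.isFractionRing_of_isDomain_of_isLocalization p.primeCompl
      (Localization.AtPrime p) K
  have hy' : ¬ IsIntegral (Localization.AtPrime p) y := by
    intro h
    obtain ⟨m, hm⟩ := IsIntegral.exists_multiple_integral_of_isLocalization p.primeCompl y h
    exact hy m m.2 hm
  obtain ⟨V, h1, h2, h3⟩ := exists_dvr_notMem (A := Localization.AtPrime p) y hy'
  refine ⟨V, h1, fun a => ?_, fun s hs => ?_, h3⟩
  · rw [IsScalarTower.algebraMap_apply A (Localization.AtPrime p) K]
    exact h2 _
  · obtain ⟨t, rfl⟩ : ∃ t : p.primeCompl, (t : A) = s := ⟨⟨s, hs⟩, rfl⟩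
    have h4 := h2 (IsLocalization.mk' _ 1 t)
    have h5 : algebraMap A K t * algebraMap (Localization.AtPrime p) K
        (IsLocalization.mk' _ 1 t) = 1 := by
      rw [IsScalarTower.algebraMap_apply A (Localization.AtPrime p) K, ← map_mul,
        IsLocalization.mk'_spec', map_one, map_one]
    rwa [← eq_inv_of_mul_eq_one_right h5]

/-- Finitely many discrete valuation rings detect integrality on a finitely generated submodule. -/
theorem exists_finset_dvr (N : Submodule A K) (hN : N.FG) :
    ∃ F : Finset (ValuationSubring K),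
      (∀ V ∈ F, IsDiscreteValuationRing V ∧ ∀ a : A, algebraMap A K a ∈ V) ∧
      ∀ z ∈ N, (∀ V ∈ F, z ∈ V) → IsIntegral A z := by
  classical
  have hfin : Module.Finite A N := Module.Finite.iff_fg.2 hN
  let P : Submodule A N → Prop := fun N' => ∃ F : Finset (ValuationSubring K),
      (∀ V ∈ F, IsDiscreteValuationRing V ∧ ∀ a : A, algebraMap A K a ∈ V) ∧
      ∀ z ∈ N', (∀ V ∈ F, (z : K) ∈ V) → IsIntegral A (z : K)
  have hsmulV : ∀ V : ValuationSubring K, (∀ a : A, algebraMap A K a ∈ V) → ∀ (a : A) (z : K),
      z ∈ V → a • z ∈ V := by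
    intro V hV a z hz
    rw [Algebra.smul_def]
    exact V.mul_mem _ _ (hV a) hz
  have hintV : ∀ V : ValuationSubring K, (∀ a : A, algebraMap A K a ∈ V) → ∀ (z : K),
      IsIntegral A z → z ∈ V := by
    intro V hV z hz
    let : Algebra A V := ((algebraMap A K).codRestrict V.toSubring hV).toAlgebra
    have : IsScalarTower A V K := IsScalarTower.of_algebraMap_eq fun _ => rfl
    obtain ⟨w, hw⟩ := IsIntegrallyClosed.isIntegral_iff.1 (hz.tower_top (A := V))
    rw [← hw]
    exact w.2
  have hbot : P ⊥ := ⟨∅, by simp, fun z hz _ => by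
    rw [(Submodule.mem_bot A).1 hz]
    exact isIntegral_zero⟩
  obtain ⟨N', hN'P, hN'max⟩ : ∃ N' : Submodule A N, P N' ∧ ∀ N'' : Submodule A N, P N'' → N' ≤ N'' →
      N'' = N' := by
    obtain ⟨m, hm, hmax⟩ := wellFounded_gt.has_min {N' : Submodule A N | P N'} ⟨⊥, hbot⟩
    exact ⟨m, hm, fun N'' h1 h2 => by
      by_contra hne
      exact hmax N'' h1 (lt_of_le_of_ne h2 (Ne.symm hne))⟩
  obtain ⟨F, hF, hFz⟩ := hN'P
  -- `N'` contains all integral elements
  have hint : ∀ z : N, IsIntegral A (z : K) → z ∈ N' := by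
    let I : Submodule A N := (integralClosure A K).toSubmodule.comap N.subtype
    have : N' ⊔ I = N' := by
      refine hN'max _ ⟨F, hF, ?_⟩ le_sup_left
      intro z hz hzV
      obtain ⟨z₁, hz₁, z₂, hz₂, rfl⟩ := Submodule.mem_sup.1 hz
      have hz₂' : IsIntegral A (z₂ : K) := hz₂
      have h1 : IsIntegral A (z₁ : K) := hFz z₁ hz₁ fun V hV => by
        have := sub_mem (hzV V hV) (hintV V (hF V hV).2 _ hz₂')
        simpa using this
      exact h1.add hz₂'
    intro z hz
    rw [← this]
    exact Submodule.mem_sup_right hz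
  have htop : N' = ⊤ := by
    by_contra hne
    have : Nontrivial (N ⧸ N') := Submodule.Quotient.nontrivial_iff.2 hne
    obtain ⟨p, hp⟩ := associatedPrimes.nonempty A (N ⧸ N')
    rw [AssociatedPrimes.mem_iff, isAssociatedPrime_iff] at hp
    obtain ⟨hpp, xbar, hx⟩ := hp
    obtain ⟨x, rfl⟩ := Submodule.Quotient.mk_surjective _ xbar
    have hmem : ∀ a : A, a ∈ p ↔ a • x ∈ N' := by
      intro a
      rw [hx, Submodule.mem_colon_singleton, Submodule.mem_bot, ← Submodule.Quotient.mk_smul,
        Submodule.Quotient.mk_eq_zero]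
    have hx1 : x ∉ N' := fun h => hpp.ne_top ((Ideal.eq_top_iff_one p).2 ((hmem 1).2 (by simpa using h)))
    -- the bigger submodule
    have hbig : ¬ P (N' ⊔ Submodule.span A {x}) := fun h => hx1 (by
      rw [← hN'max _ h le_sup_left]
      exact Submodule.mem_sup_right (Submodule.mem_span_singleton_self x))
    have hnot : ¬ ∀ z ∈ N' ⊔ Submodule.span A {x}, (∀ V ∈ F, (z : K) ∈ V) → IsIntegral A (z : K) :=
      fun h => hbig ⟨F, hF, h⟩
    push Not at hnot
    obtain ⟨y, hy, hyV, hyint⟩ := hnot
    obtain ⟨n', hn', w, hw, rfl⟩ := Submodule.mem_sup.1 hy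
    obtain ⟨a, rfl⟩ := Submodule.mem_span_singleton.1 hw
    have ha : a ∉ p := fun hap => hyint (hFz _ (N'.add_mem hn' ((hmem a).1 hap)) hyV)
    obtain ⟨V, hV1, hV2, hV3, hV4⟩ := exists_dvr_notMem_prime p ((n' + a • x : N) : K) (by
      intro s hs hsint
      have h1 : s • (n' + a • x) ∈ N' := hint _ hsint
      rw [smul_add] at h1
      have h2 : s • a • x ∈ N' := by
        have := N'.sub_mem h1 (N'.smul_mem s hn')
        simpa using this
      rw [smul_smul, ← hmem] at h2
      exact (hpp.mem_or_mem h2).elim hs ha)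
    refine hbig ⟨insert V F, ?_, ?_⟩
    · intro W hW
      rcases Finset.mem_insert.1 hW with rfl | hW
      · exact ⟨hV1, hV2⟩
      · exact hF W hW
    · intro z hz hzV
      obtain ⟨n₂, hn₂, w₂, hw₂, rfl⟩ := Submodule.mem_sup.1 hz
      obtain ⟨b, rfl⟩ := Submodule.mem_span_singleton.1 hw₂
      by_cases hb : b ∈ p
      · exact hFz _ (N'.add_mem hn₂ ((hmem b).1 hb)) fun W hW => hzV W (Finset.mem_insert_of_mem hW)
      -- `a • z - b • y ∈ N'` and in all `V ∈ F`, hence integral
      exfalso
      apply hV4
      have h1 : IsIntegral A ((a • (n₂ + b • x) - b • (n' + a • x) : N) : K) := by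
        apply hFz
        · have : a • (n₂ + b • x) - b • (n' + a • x) = a • n₂ - b • n' := by
            rw [smul_add, smul_add, smul_smul, smul_smul, mul_comm b a]
            abel
          rw [this]
          exact N'.sub_mem (N'.smul_mem _ hn₂) (N'.smul_mem _ hn')
        · intro W hW
          have h3 := hsmulV W (hF W hW).2 a _ (hzV W (Finset.mem_insert_of_mem hW))
          have h4 := hsmulV W (hF W hW).2 b _ (hyV W hW)
          exact sub_mem h3 h4
      have h2 := hintV V hV2 _ h1
      have h3 := hsmulV V hV2 a _ (hzV V (Finset.mem_insert_self _ _))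
      have h4 : b • ((n' + a • x : N) : K) ∈ V := by
        have := sub_mem h3 h2
        convert this using 1
        push_cast
        ring
      have h5 := V.mul_mem _ _ (hV3 b hb) h4
      rw [Algebra.smul_def, ← mul_assoc, inv_mul_cancel₀, one_mul] at h5
      · exact h5
      · intro h0
        apply hb
        have : b = 0 := (IsFractionRing.injective A K) (by rw [h0, map_zero])
        rw [this]
        exact p.zero_mem
  refine ⟨F, hF, fun z hz hzV => ?_⟩
  exact hFz ⟨z, hz⟩ (by rw [htop]; trivial) hzV

end Groth.Agent.UnramB.DvrHull
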