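import Groth.Agent.Etcore.StalkUnit
import Groth.Agent.Etcore.PushPoint
import Groth.Agent.Etcore.Stalks
import Groth.Agent.EtpbcA.FLC
import Groth.Agent.EtpbcB.GeomPointIndep
import Groth.Agent.Etbase.StrictHensPoint
import Groth.Agent.Etrest.ConstBasic

/-!
# Finite locally constant sheaves on strictly henselian local schemes and the unit `G ⟶ t_* t⁻¹ G`
-/

set_option autoImplicit false
universe u

open CategoryTheory CategoryTheory.Limits AlgebraicGeometry Opposite

namespace Groth.Agent.UnramB.LAFlc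

open Groth.Agent.EtpbcA Groth.Agent.Etbase

section id

variable {Ω : Type u} [Field Ω] [IsSepClosed Ω] {W : (Spec (CommRingCat.of Ω)).Etale} (hW : IsTerminal W)
  (w : Germ.Fib (𝟙 (Spec (CommRingCat.of Ω))) W)

/-- The section defined by a geometric point above the identity. -/
noncomputable def sec (W : (Spec (CommRingCat.of Ω)).Etale) {V : (Spec (CommRingCat.of Ω)).Etale}
    (v : Germ.Fib (𝟙 (Spec (CommRingCat.of Ω))) V) : W ⟶ V :=
  MorphismProperty.Over.homMk (W.hom ≫ v.left) (by
    have h : (v.left : Spec (CommRingCat.of Ω) ⟶ V.left) ≫ V.hom = 𝟙 _ := Over.w v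
    exact (Category.assoc _ _ _).trans ((congrArg (fun k => W.hom ≫ k) h).trans
      (Category.comp_id _))) trivial

theorem fmap_sec {V : (Spec (CommRingCat.of Ω)).Etale} (v : Germ.Fib (𝟙 (Spec (CommRingCat.of Ω))) V) :
    Germ.fmap (𝟙 _) (sec W v) w = v := by
  apply Over.OverMorphism.ext
  have h : (w.left : Spec (CommRingCat.of Ω) ⟶ W.left) ≫ W.hom = 𝟙 _ := Over.w w
  change (w.left : Spec (CommRingCat.of Ω) ⟶ W.left) ≫ W.hom ≫ v.left = v.left
  exact (Category.assoc _ _ _).symm.trans ((congrArg (fun k => k ≫ v.left) h).trans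
    (Category.id_comp _))

include hW in
/-- On `Spec Ω`, global sections are the stalk at the identity. -/
theorem bijective_germ_id (A : EtCoh.Ab (Spec (CommRingCat.of Ω))) :
    Function.Bijective (Germ.germ (𝟙 _) A w) := by
  constructor
  · intro z₁ z₂ h
    obtain ⟨V, g, v, hv, hg⟩ := (Germ.germ_eq_iff _ A w z₁ z₂).1 h
    have hs : sec W v ≫ g = 𝟙 _ := hW.hom_ext _ _
    have h1 := congrArg (A.obj.map (sec W v).op) hg
    simp only [← ConcreteCategory.comp_apply, ← A.obj.map_comp, ← op_comp, hs] at h1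
    simpa using h1
  · intro p
    obtain ⟨V, v, z, rfl⟩ := Germ.germ_surj _ A p
    refine ⟨A.obj.map (sec W v).op z, ?_⟩
    rw [Germ.germ_res, fmap_sec]

end id

variable (R : Type u) [CommRing R] [HenselianLocalRing R] [IsSepClosed (IsLocalRing.ResidueField R)]

omit [IsSepClosed (IsLocalRing.ResidueField R)] in
theorem pt_default : StrictHensPoint.pt R default = IsLocalRing.closedPoint R := by
  have h : (default : Spec (CommRingCat.of (IsLocalRing.ResidueField R))) =
      (IsLocalRing.closedPoint (IsLocalRing.ResidueField R) : PrimeSpectrum _) :=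
    Subsingleton.elim (α := Spec (CommRingCat.of (IsLocalRing.ResidueField R))) _ _
  rw [h]
  exact IsLocalRing.comap_closedPoint (IsLocalRing.residue R)

variable (G : EtCoh.Ab (Spec (CommRingCat.of R))) (hG : EtCoh.IsFiniteLocallyConstant G)

include hG in
/-- Global sections of a finite locally constant sheaf on a strictly henselian scheme are its stalk at every
geometric point. -/
theorem bijective_germ {Ω : Type u} [Field Ω] [IsSepClosed Ω]
    (ξ : Spec (CommRingCat.of Ω) ⟶ Spec (CommRingCat.of R)) (v : Germ.Fib ξ (EtCoh.top _)) :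
    Function.Bijective (Germ.germ ξ G v) := by
  rw [FLC.flc_iff] at hG
  obtain ⟨U, u, M, _, _, φ, hu, h⟩ := hG (IsLocalRing.closedPoint R)
  obtain ⟨t, ht⟩ := Scheme.pointSmallEtaleFiberObjToPreimage_surjective (StrictHensPoint.pt R) rfl U
    ⟨u, hu.trans (pt_default R).symm⟩
  obtain ⟨s, hs⟩ := StrictHensPoint.exists_section R U t
  have h' := h.res s
  have h1 : Function.Bijective ((Germ.res G s).comp φ) := by
    have h2 := h' _ (StrictHensPoint.pt R) (StrictHensPoint.elt R)
    exact (Function.Bijective.of_comp_iff' (StrictHensPoint.bijective_toPresheafFiber R G.obj) _).1 h2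
  exact (Function.Bijective.of_comp_iff _ h1).1 (h' Ω ξ v)

variable {Ω : Type u} [Field Ω] [IsSepClosed Ω] (t : Spec (CommRingCat.of Ω) ⟶ Spec (CommRingCat.of R))

include hG in
/-- The unit of `t` is bijective on global sections. -/
theorem bijective_unit_top :
    Function.Bijective (((EtCoh.pullPushAdj t).unit.app G).hom.app
      (op (EtCoh.top (Spec (CommRingCat.of R))))) := by
  let v : Germ.Fib (𝟙 _ ≫ t) (EtCoh.top (Spec (CommRingCat.of R))) :=
    Over.homMk (𝟙 _ ≫ t) (Category.comp_id _)
  let u0 : Germ.Fib (𝟙 (Spec (CommRingCat.of Ω))) ((EtCoh.bc t).obj (EtCoh.top _)) :=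
    (StalkPull.fiberIso t (𝟙 _)).hom.app (EtCoh.top _) v
  have key : ∀ s : EtCoh.sect G (EtCoh.top _), (StalkPull.stalkPullIso t (𝟙 _)).hom.app G
      (Germ.germ (𝟙 _ ≫ t) G v s) =
      Germ.germ (𝟙 _) ((EtCoh.pull t).obj G) u0 (((EtCoh.pullPushAdj t).unit.app G).hom.app (op (EtCoh.top _)) s) :=
    fun s => Etcore.StalkUnit.stalkPullIso_hom_germ t (𝟙 _) G v s
  have hb : Function.Bijective (fun s => (StalkPull.stalkPullIso t (𝟙 _)).hom.app G
      (Germ.germ (𝟙 _ ≫ t) G v s)) :=
    (ConcreteCategory.bijective_of_isIso _).comp (bijective_germ R G hG _ v)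
  have h2 : Function.Bijective (Germ.germ (𝟙 _) ((EtCoh.pull t).obj G) u0) :=
    bijective_germ_id (Etrest.ConstBasic.isTerminalBcTop t) u0 _
  refine (Function.Bijective.of_comp_iff' h2 _).1 ?_
  have h3 : (fun s => (StalkPull.stalkPullIso t (𝟙 _)).hom.app G (Germ.germ (𝟙 _ ≫ t) G v s)) =
      Germ.germ (𝟙 _) ((EtCoh.pull t).obj G) u0 ∘
        (((EtCoh.pullPushAdj t).unit.app G).hom.app (op (EtCoh.top (Spec (CommRingCat.of R))))) :=
    funext key
  rw [← h3]
  exact hb

include hG in
/-- The unit of `t` is an isomorphism on stalks over the closed point. -/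
theorem isIso_stalk_unit {k : Type u} [Field k] [IsSepClosed k]
    (ζ : Spec (CommRingCat.of k) ⟶ Spec (CommRingCat.of R)) (hζ : ζ default = IsLocalRing.closedPoint R) :
    IsIso ((EtCoh.stalk ζ).map ((EtCoh.pullPushAdj t).unit.app G)) := by
  obtain ⟨e⟩ := EtpbcB.GeomPointIndep.nonempty_stalkIso (StrictHensPoint.pt R) ζ
    ((pt_default R).trans hζ.symm)
  rw [← NatIso.isIso_map_iff e, ConcreteCategory.isIso_iff_bijective]
  have h1 := StrictHensPoint.bijective_toPresheafFiber R G.obj
  have h2 := StrictHensPoint.bijective_toPresheafFiber R ((EtCoh.push t).obj ((EtCoh.pull t).obj G)).obj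
  have h3 := bijective_unit_top R G hG t
  have h4 : ((EtCoh.stalk (StrictHensPoint.pt R)).map ((EtCoh.pullPushAdj t).unit.app G)) ∘
      (Germ.germ (StrictHensPoint.pt R) G (StrictHensPoint.elt R)) =
      (Germ.germ (StrictHensPoint.pt R) ((EtCoh.push t).obj ((EtCoh.pull t).obj G)) (StrictHensPoint.elt R)) ∘
      (((EtCoh.pullPushAdj t).unit.app G).hom.app (op (EtCoh.top (Spec (CommRingCat.of R))))) := by
    funext s
    exact Germ.germ_map (StrictHensPoint.pt R) ((EtCoh.pullPushAdj t).unit.app G) (StrictHensPoint.elt R) s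
  have h5 : Function.Bijective (((EtCoh.stalk (StrictHensPoint.pt R)).map
      ((EtCoh.pullPushAdj t).unit.app G)) ∘ (Germ.germ (StrictHensPoint.pt R) G (StrictHensPoint.elt R))) := by
    rw [h4]
    exact h2.comp h3
  exact (Function.Bijective.of_comp_iff _ h1).1 h5

include hG in
/-- The unit of `t` is an isomorphism after inverse image to the closed point. -/
theorem isIso_pull_unit {k : Type u} [Field k] [IsSepClosed k]
    (g : Spec (CommRingCat.of k) ⟶ Spec (CommRingCat.of R)) (hg : g default = IsLocalRing.closedPoint R) :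
    IsIso ((EtCoh.pull g).map ((EtCoh.pullPushAdj t).unit.app G)) := by
  rw [Etcore.Stalks.isIso_iff_stalks]
  intro Ω' _ _ ξ
  have h1 := isIso_stalk_unit R G hG t (ξ ≫ g) (by
    rw [Scheme.Hom.comp_apply]
    exact (congrArg g (Subsingleton.elim (α := Spec (CommRingCat.of k)) _ _)).trans hg)
  exact (NatIso.isIso_map_iff (StalkPull.stalkPullIso g ξ) _).1 h1

end Groth.Agent.UnramB.LAFlc
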