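import Groth.Agent.Etrest.RDer3

/-!
# Homological algebra for nearby cycles

`L ⊣ G` with `L` exact and `G` left exact, `F` an object, `a : F[0] ⟶ E` and `j : L E ⟶ I` quasi-isomorphisms
between complexes concentrated in degrees `≥ 0`, the terms of `I` being `G`-acyclic.  We compare
`Φ : E ⟶ G L E ⟶ G I` with the unit `F ⟶ G L F` in degree `0` and with `R^q G (L F)` in degrees `q > 0`.
-/

set_option autoImplicit false
universe w w' v v' u u'

open CategoryTheory CategoryTheory.Limits

noncomputable section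
namespace Groth.Agent.UnramB.LAHom

open Groth.Agent.Etrest Groth.Agent.Etrest.RDer1 Groth.Agent.Etrest.RDer2 Groth.Agent.Etrest.RDer3

theorem isIso_iff_of_sq {C : Type*} [Category* C] {W X Y Z : C} (a : W ⟶ X) (b : Y ⟶ Z) (c : W ⟶ Y)
    (d : X ⟶ Z) (h : a ≫ d = c ≫ b) (hc : IsIso c) (hd : IsIso d) : IsIso a ↔ IsIso b := by
  constructor
  · intro ha
    have h1 : IsIso (c ≫ b) := by
      rw [← h]
      infer_instance
    exact IsIso.of_isIso_comp_left c b
  · intro hb
    have h1 : IsIso (a ≫ d) := by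
      rw [h]
      infer_instance
    exact IsIso.of_isIso_comp_right a d

section nat

variable {A : Type u} [Category.{v} A] [Abelian A] {B : Type u'} [Category.{v'} B] [Abelian B]

/-- A transformation between exact functors is a quasi-isomorphism on a complex as soon as it is an isomorphism
on its homology objects. -/
theorem quasiIsoAt_natTrans {E E' : A ⥤ B} [E.Additive] [E'.Additive] [E.PreservesHomology]
    [E'.PreservesHomology] (α : E ⟶ E') (K : CochainComplex A ℤ) (n : ℤ)
    (h : IsIso (α.app (K.homology n))) :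
    QuasiIsoAt ((NatTrans.mapHomologicalComplex α (ComplexShape.up ℤ)).app K) n := by
  rw [quasiIsoAt_iff_isIso_homologyMap]
  have h1 : HomologicalComplex.homologyMap ((NatTrans.mapHomologicalComplex α (ComplexShape.up ℤ)).app K) n =
      ((K.sc n).mapHomologyIso E).hom ≫ α.app (K.homology n) ≫ ((K.sc n).mapHomologyIso E').inv :=
    ShortComplex.homologyMap_mapNatTrans (K.sc n) α
  rw [h1]
  exact IsIso.comp_isIso' inferInstance (IsIso.comp_isIso' h inferInstance)

/-- Exact functors and homology. -/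
theorem isIso_homologyMap_map_iff {A : Type u} [Category.{v} A] [Abelian A] {B : Type u'} [Category.{v'} B]
    [Abelian B] (E : A ⥤ B) [E.Additive] [E.PreservesHomology] {K L : CochainComplex A ℤ} (φ : K ⟶ L) (n : ℤ) :
    QuasiIsoAt ((E.mapHomologicalComplex (ComplexShape.up ℤ)).map φ) n ↔
      IsIso (E.map (HomologicalComplex.homologyMap φ n)) := by
  rw [quasiIsoAt_iff_isIso_homologyMap]
  have h1 : HomologicalComplex.homologyMap ((E.mapHomologicalComplex (ComplexShape.up ℤ)).map φ) n ≫
      ((L.sc n).mapHomologyIso E).hom =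
      ((K.sc n).mapHomologyIso E).hom ≫ E.map (HomologicalComplex.homologyMap φ n) :=
    ShortComplex.mapHomologyIso_hom_naturality ((HomologicalComplex.shortComplexFunctor A _ n).map φ) E
  exact isIso_iff_of_sq _ _ _ _ h1 inferInstance inferInstance

/-- A left exact functor preserves isomorphisms on `H^a` between complexes concentrated in degrees `≥ a`. -/
theorem quasiIsoAt_map_of_isStrictlyGE (G : A ⥤ B) [G.Additive] [PreservesFiniteLimits G]
    {K L : CochainComplex A ℤ} (φ : K ⟶ L) (a : ℤ) [K.IsStrictlyGE a] [L.IsStrictlyGE a]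
    (h : QuasiIsoAt φ a) : QuasiIsoAt ((G.mapHomologicalComplex (ComplexShape.up ℤ)).map φ) a := by
  have hz : ∀ (M : CochainComplex A ℤ) [M.IsStrictlyGE a], (M.sc a).f = 0 := by
    intro M _
    have : IsZero (M.X ((ComplexShape.up ℤ).prev a)) := M.isZero_of_isStrictlyGE a _ (by simp)
    exact this.eq_of_src _ _
  have h1 : G.PreservesLeftHomologyOf (K.sc a) := G.preservesLeftHomology_of_zero_f _ (hz K)
  have h2 : G.PreservesLeftHomologyOf (L.sc a) := G.preservesLeftHomology_of_zero_f _ (hz L)
  rw [quasiIsoAt_iff] at h ⊢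
  exact ShortComplex.quasiIso_map_of_preservesLeftHomology G
    ((HomologicalComplex.shortComplexFunctor A (ComplexShape.up ℤ) a).map φ)

/-- The homology of the image of a complex under an exact functor. -/
def mapHomologyIso' (S : A ⥤ B) [S.Additive] [S.PreservesHomology] (M : CochainComplex A ℤ) (m : ℤ) :
    ((S.mapHomologicalComplex (.up ℤ)).obj M).homology m ≅ S.obj (M.homology m) :=
  (M.sc m).mapHomologyIso S

theorem acyclic_of_iso {K L : CochainComplex A ℤ} (e : K ≅ L) (h : K.Acyclic) : L.Acyclic :=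
  fun i => (h i).of_iso e

theorem acyclic_map_iff (S : A ⥤ B) [S.Additive] [S.PreservesHomology] (M : CochainComplex A ℤ) :
    HomologicalComplex.Acyclic ((S.mapHomologicalComplex (.up ℤ)).obj M) ↔ ∀ m, IsZero (S.obj (M.homology m)) := by
  refine forall_congr' fun m => ?_
  rw [HomologicalComplex.exactAt_iff_isZero_homology]
  exact ⟨fun h => h.of_iso (mapHomologyIso' S M m).symm, fun h => h.of_iso (mapHomologyIso' S M m)⟩

/-- An additive functor sends `φ` to a quasi-isomorphism iff it makes the cone of `φ` acyclic. -/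
theorem quasiIso_map_iff_acyclic_cone (S : A ⥤ B) [S.Additive] {K L : CochainComplex A ℤ} (φ : K ⟶ L) :
    QuasiIso ((S.mapHomologicalComplex (.up ℤ)).map φ) ↔
      HomologicalComplex.Acyclic ((S.mapHomologicalComplex (.up ℤ)).obj (CochainComplex.mappingCone φ)) := by
  rw [quasiIso_iff_acyclic]
  exact ⟨acyclic_of_iso (CochainComplex.mappingCone.mapHomologicalComplexIso φ S).symm,
    acyclic_of_iso (CochainComplex.mappingCone.mapHomologicalComplexIso φ S)⟩

end nat

section adj

variable {C : Type u} [Category.{v} C] [Abelian C] {D : Type u'} [Category.{v'} D] [Abelian D]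
  {L : C ⥤ D} {G : D ⥤ C} [L.Additive] [G.Additive] (adj : L ⊣ G)

/-- The unit of an adjunction, termwise. -/
@[simps]
def unitCx (K : CochainComplex C ℤ) :
    K ⟶ (G.mapHomologicalComplex (.up ℤ)).obj ((L.mapHomologicalComplex (.up ℤ)).obj K) where
  f n := adj.unit.app (K.X n)
  comm' i j _ := (adj.unit.naturality (K.d i j)).symm

@[reassoc]
theorem unitCx_naturality {K K' : CochainComplex C ℤ} (φ : K ⟶ K') :
    φ ≫ unitCx adj K' = unitCx adj K ≫
      (G.mapHomologicalComplex (.up ℤ)).map ((L.mapHomologicalComplex (.up ℤ)).map φ) := by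
  ext n
  exact adj.unit.naturality (φ.f n)

variable {F : C} {E : CochainComplex C ℤ} {I : CochainComplex D ℤ}

/-- `E ⟶ G L E ⟶ G I`. -/
def Phi (j : (L.mapHomologicalComplex (.up ℤ)).obj E ⟶ I) :
    E ⟶ (G.mapHomologicalComplex (.up ℤ)).obj I :=
  unitCx adj E ≫ (G.mapHomologicalComplex (.up ℤ)).map j

/-- Morphisms between complexes concentrated in degree zero. -/
theorem isIso_map_homologyMap_iff_of_zero {K K' : CochainComplex C ℤ} (φ : K ⟶ K')
    (h₁ : IsZero (K.X (-1))) (h₂ : IsZero (K.X 1)) (h₁' : IsZero (K'.X (-1))) (h₂' : IsZero (K'.X 1))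
    {H : Type*} [Category* H] (S : C ⥤ H) :
    IsIso (S.map (HomologicalComplex.homologyMap φ 0)) ↔ IsIso (S.map (φ.f 0)) := by
  have hπ : IsIso (K.homologyπ 0) := K.isIso_homologyπ (-1) 0 (by simp) (h₁.eq_of_src _ _)
  have hπ' : IsIso (K'.homologyπ 0) := K'.isIso_homologyπ (-1) 0 (by simp) (h₁'.eq_of_src _ _)
  have hι : IsIso (K.iCycles 0) := K.isIso_iCycles 0 1 (by simp) (h₂.eq_of_tgt _ _)
  have hι' : IsIso (K'.iCycles 0) := K'.isIso_iCycles 0 1 (by simp) (h₂'.eq_of_tgt _ _)
  have e1 : IsIso (S.map (HomologicalComplex.cyclesMap φ 0)) ↔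
      IsIso (S.map (HomologicalComplex.homologyMap φ 0)) := by
    refine isIso_iff_of_sq _ _ (S.map (K.homologyπ 0)) (S.map (K'.homologyπ 0)) ?_ inferInstance inferInstance
    rw [← S.map_comp, ← S.map_comp, HomologicalComplex.homologyπ_naturality]
  have e2 : IsIso (S.map (HomologicalComplex.cyclesMap φ 0)) ↔ IsIso (S.map (φ.f 0)) := by
    refine isIso_iff_of_sq _ _ (S.map (K.iCycles 0)) (S.map (K'.iCycles 0)) ?_ inferInstance inferInstance
    rw [← S.map_comp, ← S.map_comp, HomologicalComplex.cyclesMap_i]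
  rw [← e1, e2]

variable [PreservesFiniteLimits L] [PreservesFiniteColimits L]

/-- The composite `L (F[0]) ⟶ L E ⟶ I`. -/
def cmap (a : (HomologicalComplex.single C (.up ℤ) 0).obj F ⟶ E)
    (j : (L.mapHomologicalComplex (.up ℤ)).obj E ⟶ I) :
    (L.mapHomologicalComplex (.up ℤ)).obj ((HomologicalComplex.single C (.up ℤ) 0).obj F) ⟶ I :=
  (L.mapHomologicalComplex (.up ℤ)).map a ≫ j

omit [PreservesFiniteLimits L] [PreservesFiniteColimits L] in
theorem a_Phi (a : (HomologicalComplex.single C (.up ℤ) 0).obj F ⟶ E)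
    (j : (L.mapHomologicalComplex (.up ℤ)).obj E ⟶ I) :
    a ≫ Phi adj j = unitCx adj _ ≫ (G.mapHomologicalComplex (.up ℤ)).map (cmap a j) := by
  rw [Phi, unitCx_naturality_assoc, cmap, Functor.map_comp]

instance (a : (HomologicalComplex.single C (.up ℤ) 0).obj F ⟶ E) [QuasiIso a]
    (j : (L.mapHomologicalComplex (.up ℤ)).obj E ⟶ I) [QuasiIso j] : QuasiIso (cmap a j) := by
  unfold cmap
  infer_instance

theorem isIso_map_H0_Phi_iff [PreservesFiniteLimits G]
    (a : (HomologicalComplex.single C (.up ℤ) 0).obj F ⟶ E) [QuasiIso a] [E.IsStrictlyGE 0]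
    [I.IsStrictlyGE 0] (j : (L.mapHomologicalComplex (.up ℤ)).obj E ⟶ I) [QuasiIso j]
    {H : Type*} [Category* H] (S : C ⥤ H) :
    IsIso (S.map (HomologicalComplex.homologyMap (Phi adj j) 0)) ↔ IsIso (S.map (adj.unit.app F)) := by
  let K : CochainComplex C ℤ := (HomologicalComplex.single C (.up ℤ) 0).obj F
  have hz : ∀ n : ℤ, n ≠ 0 → IsZero (K.X n) := fun n hn =>
    HomologicalComplex.isZero_single_obj_X _ _ _ _ hn
  have h1 := isIso_map_homologyMap_iff_of_zero (unitCx adj K) (hz _ (by simp)) (hz _ (by simp))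
    (G.map_isZero (L.map_isZero (hz _ (by simp)))) (G.map_isZero (L.map_isZero (hz _ (by simp)))) S
  have h2 : IsIso (S.map ((unitCx adj K).f 0)) ↔ IsIso (S.map (adj.unit.app F)) := by
    let e : K.X 0 ≅ F := HomologicalComplex.singleObjXSelf (.up ℤ) 0 F
    refine isIso_iff_of_sq _ _ (S.map e.hom) (S.map (G.map (L.map e.hom))) ?_
      (S.mapIso e).isIso_hom (S.mapIso (G.mapIso (L.mapIso e))).isIso_hom
    rw [← S.map_comp, ← S.map_comp]
    congr 1
    exact (adj.unit.naturality e.hom).symm
  rw [← h2, ← h1]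
  have hK : K.IsStrictlyGE 0 := inferInstance
  have hLK : CochainComplex.IsStrictlyGE ((L.mapHomologicalComplex (.up ℤ)).obj K) 0 := inferInstance
  have hq : QuasiIsoAt ((G.mapHomologicalComplex (.up ℤ)).map (cmap a j)) 0 :=
    quasiIsoAt_map_of_isStrictlyGE G (cmap a j) 0 inferInstance
  rw [quasiIsoAt_iff_isIso_homologyMap] at hq
  refine (isIso_iff_of_sq _ _ (S.map (HomologicalComplex.homologyMap a 0))
    (S.map (HomologicalComplex.homologyMap ((G.mapHomologicalComplex (.up ℤ)).map (cmap a j)) 0))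
    ?_ inferInstance inferInstance).symm
  rw [← S.map_comp, ← S.map_comp, ← HomologicalComplex.homologyMap_comp,
    ← HomologicalComplex.homologyMap_comp, a_Phi]

theorem isZero_homology_of_single (a : (HomologicalComplex.single C (.up ℤ) 0).obj F ⟶ E) [QuasiIso a]
    (n : ℤ) (hn : n ≠ 0) : IsZero (E.homology n) := by
  have h1 : IsZero (((HomologicalComplex.single C (.up ℤ) 0).obj F).homology n) := by
    rw [← HomologicalComplex.exactAt_iff_isZero_homology]
    exact HomologicalComplex.exactAt_single_obj _ _ _ _ hn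
  exact h1.of_iso (asIso (HomologicalComplex.homologyMap a n)).symm

/-- The homology of the direct image of an acyclic resolution. -/
theorem nonempty_homology_iso [EnoughInjectives D] [HasDerivedCategory.{w} D] [HasKInj D]
    [HasDerivedCategory.{w'} C] [PreservesFiniteLimits G] (P : D) (I : CochainComplex D ℤ) [I.IsStrictlyGE 0]
    (c : (HomologicalComplex.single D (.up ℤ) 0).obj P ⟶ I) [QuasiIso c] (hI : ∀ i, IsAcyc G (I.X i)) (n : ℕ) :
    Nonempty (((G.mapHomologicalComplex (.up ℤ)).obj I).homology (n : ℤ) ≅ (G.rightDerived n).obj P) := by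
  have h1 := isIso_unitQ_of_isAcyc G I 0 hI
  let e1 := HTR G I h1 n
  have h2 : IsIso (DerivedCategory.Q.map c) :=
    Localization.inverts DerivedCategory.Q (HomologicalComplex.quasiIso D (.up ℤ)) c ‹_›
  let e2 : (DerivedCategory.singleFunctor D 0).obj P ≅ DerivedCategory.Q.obj I :=
    (DerivedCategory.singleFunctorIsoCompQ D 0).app P ≪≫ @asIso _ _ _ _ (DerivedCategory.Q.map c) h2
  exact ⟨e1.symm ≪≫ (DerivedCategory.homologyFunctor C n).mapIso ((TR G).mapIso e2.symm) ≪≫
    (HTRsingle G n).app P⟩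

/-- `L (F[0]) ≅ (L F)[0]`. -/
def singleL : (HomologicalComplex.single D (.up ℤ) 0).obj (L.obj F) ≅
    (L.mapHomologicalComplex (.up ℤ)).obj ((HomologicalComplex.single C (.up ℤ) 0).obj F) :=
  ((HomologicalComplex.singleMapHomologicalComplex L (.up ℤ) 0).app F).symm

/-- The criterion: an exact functor `S` sends `Φ : E ⟶ G I` to a quasi-isomorphism if and only if `S` sends the
unit `F ⟶ G L F` to an isomorphism and `S (R^q G (L F)) = 0` for `q > 0`. -/
theorem quasiIso_Phi_iff [EnoughInjectives D] [HasDerivedCategory.{w} D] [HasKInj D]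
    [HasDerivedCategory.{w'} C] [PreservesFiniteLimits G]
    (a : (HomologicalComplex.single C (.up ℤ) 0).obj F ⟶ E) [QuasiIso a] [E.IsStrictlyGE 0]
    [I.IsStrictlyGE 0] (j : (L.mapHomologicalComplex (.up ℤ)).obj E ⟶ I) [QuasiIso j]
    (hI : ∀ i, IsAcyc G (I.X i))
    {H : Type*} [Category* H] [Abelian H] (S : C ⥤ H) [S.Additive] [S.PreservesHomology] :
    QuasiIso ((S.mapHomologicalComplex (.up ℤ)).map (Phi adj j)) ↔
      (IsIso (S.map (adj.unit.app F)) ∧
        ∀ q : ℕ, 0 < q → IsZero (S.obj ((G.rightDerived q).obj (L.obj F)))) := by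
  have key : ∀ n : ℕ, Nonempty (((G.mapHomologicalComplex (.up ℤ)).obj I).homology (n : ℤ) ≅
      (G.rightDerived n).obj (L.obj F)) := fun n =>
    nonempty_homology_iso (L.obj F) I (singleL.hom ≫ cmap a j) hI n
  have hneg : ∀ (M : CochainComplex C ℤ) [M.IsStrictlyGE 0] (n : ℤ), n < 0 → IsZero (M.homology n) := by
    intro M _ n hn
    rw [← HomologicalComplex.exactAt_iff_isZero_homology]
    exact (M.exactAt_of_isGE 0 n hn)
  have hGI : CochainComplex.IsStrictlyGE ((G.mapHomologicalComplex (.up ℤ)).obj I) 0 := inferInstance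
  have step : ∀ n : ℤ, QuasiIsoAt ((S.mapHomologicalComplex (.up ℤ)).map (Phi adj j)) n ↔
      IsIso (S.map (HomologicalComplex.homologyMap (Phi adj j) n)) := fun n =>
    isIso_homologyMap_map_iff S (Phi adj j) n
  constructor
  · intro h
    refine ⟨(isIso_map_H0_Phi_iff adj a j S).1 ((step 0).1 inferInstance), fun q hq => ?_⟩
    have h1 := (step q).1 inferInstance
    have h2 : IsZero (S.obj (E.homology q)) := S.map_isZero (isZero_homology_of_single a q (by positivity))
    obtain ⟨e⟩ := key q
    exact (h2.of_iso (asIso (S.map (HomologicalComplex.homologyMap (Phi adj j) q))).symm).of_iso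
      (S.mapIso e.symm)
  · rintro ⟨h0, hq⟩
    constructor
    intro n
    rw [step]
    rcases lt_trichotomy n 0 with hn | rfl | hn
    · have h1 : IsZero (S.obj (E.homology n)) := S.map_isZero (hneg E n hn)
      have h2 : IsZero (S.obj (((G.mapHomologicalComplex (.up ℤ)).obj I).homology n)) :=
        S.map_isZero (hneg _ n hn)
      exact h1.isIso h2 _
    · exact (isIso_map_H0_Phi_iff adj a j S).2 h0
    · obtain ⟨q, rfl⟩ : ∃ q : ℕ, (q : ℤ) = n := ⟨n.toNat, Int.toNat_of_nonneg hn.le⟩
      have h1 : IsZero (S.obj (E.homology q)) := S.map_isZero (isZero_homology_of_single a q hn.ne')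
      obtain ⟨e⟩ := key q
      have h2 : IsZero (S.obj (((G.mapHomologicalComplex (.up ℤ)).obj I).homology q)) :=
        (hq q (by exact_mod_cast hn)).of_iso (S.mapIso e)
      exact h1.isIso h2 _

end adj

end Groth.Agent.UnramB.LAHom
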