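import Groth.Agent.S0585
import Groth.Agent.PerfB.FFFamily
import Mathlib.RingTheory.Localization.Away.Basic
import Mathlib.Algebra.Module.Torsion.Basic
import Mathlib.RingTheory.Spectrum.Prime.Topology

/-!
# Splitting a first order thickening with locally projective conormal part
-/

set_option autoImplicit false

universe u

namespace Groth.Agent.UnramB.SqZeroSplit

open TensorProduct

section product

variable {R : Type u} [CommRing R] {ι : Type u} [Finite ι] (B : ι → Type u)
  [∀ j, CommRing (B j)] [∀ j, Algebra R (B j)] (N : Type u) [AddCommGroup N] [Module R N]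

/-- A module with the lifting property against modules over each member of a finite jointly faithfully flat
family is projective. -/
theorem projective_of_local_lifting [Module.FaithfullyFlat R (Π j, B j)]
    (H : ∀ (j : ι) (M M' : Type u) [AddCommGroup M] [AddCommGroup M'] [Module (B j) M] [Module (B j) M']
      [Module R M] [Module R M'] [IsScalarTower R (B j) M] [IsScalarTower R (B j) M']
      (f : M →ₗ[B j] M') (_ : Function.Surjective f) (g : N →ₗ[R] M'),
        ∃ h : N →ₗ[R] M, f.restrictScalars R ∘ₗ h = g) : Module.Projective R N := by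
  classical
  have := Fintype.ofFinite ι
  let S := Π j, B j
  suffices hproj : Module.Projective S (S ⊗[R] N) from Groth.Agent.S0585.result R S N
  refine Module.Projective.of_lifting_property'' fun f hf => ?_
  let M := (S ⊗[R] N) →₀ S
  let M' := S ⊗[R] N
  let alg : ∀ j, Algebra S (B j) := fun j => (Pi.evalRingHom B j).toAlgebra
  have tow : ∀ j, IsScalarTower R S (B j) := fun j => IsScalarTower.of_algebraMap_eq fun x => rfl
  have hfj : ∀ j, Function.Surjective (f.baseChange (B j)) := fun j =>
    LinearMap.lTensor_surjective (B j) hf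
  -- the comparison `B j ⊗ M → M`
  let ρ : ∀ (j : ι) (E : Type u) [AddCommGroup E] [Module S E], B j ⊗[S] E →ₗ[S] E := fun j E _ _ =>
    TensorProduct.lift
      { toFun := fun b =>
          { toFun := fun m => (Pi.single j b : S) • m
            map_add' := fun x y => smul_add _ _ _
            map_smul' := fun c x => by
              simp only [RingHom.id_apply, ← mul_smul, mul_comm] }
        map_add' := fun x y => by
          ext m
          simp only [LinearMap.coe_mk, AddHom.coe_mk, LinearMap.add_apply, Pi.single_add, add_smul]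
        map_smul' := fun c x => by
          ext m
          simp only [LinearMap.coe_mk, AddHom.coe_mk, RingHom.id_apply, LinearMap.smul_apply,
            ← mul_smul]
          congr 1
          rw [Algebra.smul_def]
          ext i
          by_cases h : i = j
          · subst h
            rw [Pi.mul_apply, Pi.single_eq_same, Pi.single_eq_same]
            rfl
          · rw [Pi.mul_apply, Pi.single_eq_of_ne h, Pi.single_eq_of_ne h, mul_zero] }
  have hρ : ∀ (j : ι) (E : Type u) [AddCommGroup E] [Module S E] (b : B j) (m : E),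
      ρ j E (b ⊗ₜ m) = (Pi.single j b : S) • m := fun j E _ _ b m => rfl
  have hρf : ∀ (j : ι) (x : B j ⊗[S] M), f (ρ j M x) = ρ j M' (f.baseChange (B j) x) := by
    intro j x
    induction x with
    | zero => simp
    | tmul b m => rw [LinearMap.baseChange_tmul, hρ, hρ, map_smul]
    | add x y hx hy => simp only [map_add, hx, hy]
  let g : N →ₗ[R] M' := (TensorProduct.mk R S N 1)
  have key : ∀ j, ∃ h : N →ₗ[R] B j ⊗[S] M,
      ((f.baseChange (B j)).restrictScalars R) ∘ₗ h =
        ((TensorProduct.mk S (B j) M' 1).restrictScalars R) ∘ₗ g := fun j =>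
    H j (B j ⊗[S] M) (B j ⊗[S] M') (f.baseChange (B j)) (hfj j) _
  choose h hh using key
  let hs : N →ₗ[R] M := ∑ j, ((ρ j M).restrictScalars R) ∘ₗ (h j)
  have hhs : ∀ n, f (hs n) = 1 ⊗ₜ n := by
    intro n
    simp only [hs, LinearMap.sum_apply, map_sum, LinearMap.comp_apply, LinearMap.restrictScalars_apply, hρf]
    have : ∀ j, f.baseChange (B j) (h j n) = 1 ⊗ₜ (1 ⊗ₜ[R] n) := fun j => congr($(hh j) n)
    simp only [this, hρ, ← Finset.sum_smul]
    have h1 : (∑ j, Pi.single j (1 : B j) : S) = 1 := by
      exact Finset.univ_sum_single (1 : S)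
    rw [h1, one_smul]
  refine ⟨LinearMap.liftBaseChange S hs, ?_⟩
  ext n
  simp [hhs]

end product

section span

variable {R : Type u} [CommRing R] {ι : Type u} [Finite ι] (s : ι → R)

theorem faithfullyFlat_away (hs : Ideal.span (Set.range s) = ⊤) :
    Module.FaithfullyFlat R (Π j, Localization.Away (s j)) := by
  apply Groth.Agent.PerfB.FFFamily.faithfullyFlat_pi
  intro p
  obtain ⟨j, hj⟩ : ∃ j, s j ∉ p.asIdeal := by
    by_contra hcon
    push Not at hcon
    refine p.2.ne_top (top_le_iff.mp (hs ▸ Ideal.span_le.mpr ?_))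
    rintro _ ⟨j, rfl⟩
    exact hcon j
  refine ⟨j, ?_⟩
  have : p ∈ Set.range (PrimeSpectrum.comap (algebraMap R (Localization.Away (s j)))) := by
    rw [PrimeSpectrum.localization_away_comap_range _ (s j)]
    exact hj
  exact this

end span

section split

variable {A : Type u} [CommRing A] (I : Ideal A)
  {C : Type u} [CommRing C] [Algebra A C] (π : C →ₐ[A] A ⧸ I)
  (hK : ∀ x y : C, π x = 0 → π y = 0 → x * y = 0)
include hK

/-- The splitting argument: if `N = C / A` is projective over `A ⧸ I` and `A → C` is injective, then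
there is a retraction of algebras. -/
theorem exists_retraction_of_projective (hinj : Function.Injective (algebraMap A C))
    [Module (A ⧸ I) (C ⧸ LinearMap.range (Algebra.linearMap A C))]
    [IsScalarTower A (A ⧸ I) (C ⧸ LinearMap.range (Algebra.linearMap A C))]
    [Module.Projective (A ⧸ I) (C ⧸ LinearMap.range (Algebra.linearMap A C))] :
    ∃ r : C →ₐ[A] A, ∀ c, Ideal.Quotient.mk I (r c) = π c := by
  let N := C ⧸ LinearMap.range (Algebra.linearMap A C)
  let K : Submodule A C := LinearMap.ker π.toLinearMap
  have hπ : ∀ a : A, π (algebraMap A C a) = Ideal.Quotient.mk I a := fun a => π.commutes a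
  have htor : Module.IsTorsionBySet A K I := by
    rintro ⟨x, hx⟩ ⟨a, ha⟩
    apply Subtype.ext
    change a • x = 0
    rw [Algebra.smul_def]
    refine hK _ _ ?_ hx
    rw [hπ]
    exact Ideal.Quotient.eq_zero_iff_mem.mpr ha
  let _ : Module (A ⧸ I) K := htor.module
  have : IsScalarTower A (A ⧸ I) K := htor.isScalarTower
  let q : K →ₗ[A] N := (LinearMap.range (Algebra.linearMap A C)).mkQ ∘ₗ K.subtype
  have hdec : ∀ c : C, ∃ a : A, c - algebraMap A C a ∈ K := by
    intro c
    obtain ⟨a, ha⟩ := Ideal.Quotient.mk_surjective (π c)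
    refine ⟨a, ?_⟩
    change π (c - algebraMap A C a) = 0
    rw [map_sub, hπ, ha, sub_self]
  have hq : Function.Surjective q := by
    intro n
    obtain ⟨c, rfl⟩ := Submodule.mkQ_surjective _ n
    obtain ⟨a, ha⟩ := hdec c
    refine ⟨⟨_, ha⟩, ?_⟩
    change Submodule.Quotient.mk _ = Submodule.Quotient.mk _
    rw [Submodule.Quotient.eq]
    refine ⟨-a, ?_⟩
    simp
  have hsurj : Function.Surjective (algebraMap A (A ⧸ I)) := Ideal.Quotient.mk_surjective
  obtain ⟨σ', hσ'⟩ := Module.projective_lifting_property
    (LinearMap.extendScalarsOfSurjective hsurj q) (LinearMap.id : N →ₗ[A ⧸ I] N) hq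
  let σ : N →ₗ[A] C := K.subtype ∘ₗ (σ'.restrictScalars A)
  have hσK : ∀ n, π (σ n) = 0 := fun n => (σ' n).2
  have hσ : ∀ n, (LinearMap.range (Algebra.linearMap A C)).mkQ (σ n) = n := fun n =>
    congr($hσ' n)
  let mk : C →ₗ[A] N := (LinearMap.range (Algebra.linearMap A C)).mkQ
  have hmem : ∀ c : C, ∃ a : A, algebraMap A C a = c - σ (mk c) := by
    intro c
    have : mk (c - σ (mk c)) = 0 := by
      rw [map_sub, sub_eq_zero]
      exact (hσ (mk c)).symm
    exact (Submodule.Quotient.mk_eq_zero _).mp this
  choose r hr using hmem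
  have hmk : ∀ a : A, mk (algebraMap A C a) = 0 := fun a =>
    (Submodule.Quotient.mk_eq_zero _).mpr ⟨a, rfl⟩
  have hmul : ∀ x y : C, mk (x * y) = r x • mk y + r y • mk x := by
    intro x y
    have hx : x = algebraMap A C (r x) + σ (mk x) := by rw [hr]; ring
    have hy : y = algebraMap A C (r y) + σ (mk y) := by rw [hr]; ring
    have h0 : σ (mk x) * σ (mk y) = 0 := hK _ _ (hσK _) (hσK _)
    have : x * y = algebraMap A C (r x * r y) + (r x • σ (mk y) + r y • σ (mk x)) := by
      rw [map_mul, Algebra.smul_def, Algebra.smul_def]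
      linear_combination y * hx + (algebraMap A C (r x) + σ (mk x)) * hy + h0
    rw [this, map_add, hmk, zero_add, map_add, map_smul, map_smul]
    congr 2 <;> exact hσ _
  refine ⟨{ toFun := r, map_one' := ?_, map_mul' := ?_, map_zero' := ?_, map_add' := ?_, commutes' := ?_ }, ?_⟩
  · apply hinj
    have h1 : mk 1 = 0 := by
      have := hmk 1
      rwa [(algebraMap A C).map_one] at this
    rw [hr, h1, map_zero, sub_zero, (algebraMap A C).map_one]
  · intro x y
    apply hinj
    have h0 : σ (mk x) * σ (mk y) = 0 := hK _ _ (hσK _) (hσK _)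
    rw [hr, (algebraMap A C).map_mul, hmul, map_add, map_smul, map_smul, Algebra.smul_def,
      Algebra.smul_def, hr, hr]
    linear_combination h0
  · apply hinj
    rw [hr, map_zero, map_zero, map_zero, sub_zero]
  · intro x y
    apply hinj
    rw [map_add, hr, hr, hr, map_add, map_add]
    ring
  · intro a
    apply hinj
    change algebraMap A C (r (algebraMap A C a)) = _
    rw [hr, hmk, map_zero, sub_zero]
    rfl
  · intro c
    change Ideal.Quotient.mk I (r c) = π c
    rw [← hπ, hr, map_sub, hσK, sub_zero]

/-- Retractions of a first order thickening exist if they exist locally and derivations lift locally. -/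
theorem exists_retraction {ι : Type u} [Finite ι] (s : ι → A) (hs : Ideal.span (Set.range s) = ⊤)
    (h1 : ∀ j, Nonempty (C →ₐ[A] Localization.Away (s j)))
    (h2 : ∀ (j : ι) (M M' : Type u) [AddCommGroup M] [AddCommGroup M']
      [Module (Localization.Away (Ideal.Quotient.mk I (s j))) M]
      [Module (Localization.Away (Ideal.Quotient.mk I (s j))) M']
      [Module (A ⧸ I) M] [Module (A ⧸ I) M'] [Module A M] [Module A M']
      [IsScalarTower (A ⧸ I) (Localization.Away (Ideal.Quotient.mk I (s j))) M]
      [IsScalarTower (A ⧸ I) (Localization.Away (Ideal.Quotient.mk I (s j))) M']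
      [IsScalarTower A (A ⧸ I) M] [IsScalarTower A (A ⧸ I) M']
      (f : M →ₗ[Localization.Away (Ideal.Quotient.mk I (s j))] M') (_ : Function.Surjective f)
      (D : C →ₗ[A] M') (_ : ∀ x y, D (x * y) = π x • D y + π y • D x),
      ∃ D' : C →ₗ[A] M, (∀ x y, D' (x * y) = π x • D' y + π y • D' x) ∧ ∀ x, f (D' x) = D x) :
    ∃ r : C →ₐ[A] A, ∀ c, Ideal.Quotient.mk I (r c) = π c := by
  have hinj : Function.Injective (algebraMap A C) := by
    rw [injective_iff_map_eq_zero]
    intro a ha
    have hz : ∀ j, algebraMap A (Localization.Away (s j)) a = 0 := by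
      intro j
      obtain ⟨r⟩ := h1 j
      rw [← r.commutes, ha, map_zero]
    have hz' : ∀ j, ∃ n : ℕ, s j ^ n * a = 0 := by
      intro j
      obtain ⟨⟨_, n, rfl⟩, hc⟩ := (IsLocalization.map_eq_zero_iff (Submonoid.powers (s j))
        (Localization.Away (s j)) a).mp (hz j)
      exact ⟨n, hc⟩
    choose n hn using hz'
    have : Fintype ι := Fintype.ofFinite ι
    let m := ∑ j, n j
    have htop : Ideal.span (Set.range fun j => s j ^ m) = ⊤ := by
      have := Ideal.span_pow_eq_top (Set.range s) hs m
      rwa [← Set.range_comp] at this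
    have hann : Ideal.span (Set.range fun j => s j ^ m) ≤ LinearMap.ker (LinearMap.mulRight A a) := by
      rw [Ideal.span_le]
      rintro _ ⟨j, rfl⟩
      change s j ^ m * a = 0
      have hjm : n j ≤ m := Finset.single_le_sum (fun i _ => Nat.zero_le (n i)) (Finset.mem_univ j)
      rw [← Nat.sub_add_cancel hjm, pow_add, mul_assoc, hn, mul_zero]
    have h1 : (1 : A) ∈ LinearMap.ker (LinearMap.mulRight A a) := hann (htop ▸ trivial)
    have h1' : (1 : A) * a = 0 := h1
    rwa [one_mul] at h1'
  have hπ : ∀ a : A, π (algebraMap A C a) = Ideal.Quotient.mk I a := fun a => π.commutes a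
  let N := C ⧸ LinearMap.range (Algebra.linearMap A C)
  let mk : C →ₗ[A] N := (LinearMap.range (Algebra.linearMap A C)).mkQ
  have hmk : ∀ a : A, mk (algebraMap A C a) = 0 := fun a =>
    (Submodule.Quotient.mk_eq_zero _).mpr ⟨a, rfl⟩
  have hmul : ∀ (x y : C) (a b : A), Ideal.Quotient.mk I a = π x → Ideal.Quotient.mk I b = π y →
      mk (x * y) = a • mk y + b • mk x := by
    intro x y a b ha hb
    have h0 : (x - algebraMap A C a) * (y - algebraMap A C b) = 0 := hK _ _
      (by rw [map_sub, hπ, ha, sub_self]) (by rw [map_sub, hπ, hb, sub_self])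
    have : x * y = a • y + b • x - algebraMap A C (a * b) := by
      rw [(algebraMap A C).map_mul, Algebra.smul_def, Algebra.smul_def]
      linear_combination h0
    rw [this, map_sub, hmk, sub_zero, map_add, map_smul, map_smul]
  have htor : Module.IsTorsionBySet A N I := by
    intro n ⟨a, ha⟩
    obtain ⟨c, rfl⟩ := Submodule.mkQ_surjective _ n
    obtain ⟨b, hb⟩ := Ideal.Quotient.mk_surjective (π c)
    change a • mk c = 0
    have h3 := hmul (algebraMap A C a) c 0 b (by
      rw [hπ, map_zero, (Ideal.Quotient.eq_zero_iff_mem.mpr ha)]) hb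
    rw [zero_smul, zero_add, hmk, smul_zero, ← Algebra.smul_def, map_smul] at h3
    exact h3
  let _ : Module (A ⧸ I) N := htor.module
  have : IsScalarTower A (A ⧸ I) N := htor.isScalarTower
  have hsmul : ∀ (a : A) (n : N), Ideal.Quotient.mk I a • n = a • n := fun a n =>
    (algebraMap_smul (A ⧸ I) a n)
  have hsurj : Function.Surjective (algebraMap A (A ⧸ I)) := Ideal.Quotient.mk_surjective
  have hspan : Ideal.span (Set.range fun j => Ideal.Quotient.mk I (s j)) = ⊤ := by
    have : (Ideal.span (Set.range s)).map (Ideal.Quotient.mk I) = ⊤ := by rw [hs, Ideal.map_top]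
    rwa [Ideal.map_span, ← Set.range_comp] at this
  have := faithfullyFlat_away _ hspan
  have hproj : Module.Projective (A ⧸ I) N := by
    refine projective_of_local_lifting (R := A ⧸ I)
      (fun j => Localization.Away (Ideal.Quotient.mk I (s j))) N ?_
    intro j M M' _ _ _ _ _ _ _ _ f hf g
    let _ : Module A M := Module.compHom M (algebraMap A (A ⧸ I))
    let _ : Module A M' := Module.compHom M' (algebraMap A (A ⧸ I))
    have : IsScalarTower A (A ⧸ I) M := IsScalarTower.of_algebraMap_smul fun _ _ => rfl
    have : IsScalarTower A (A ⧸ I) M' := IsScalarTower.of_algebraMap_smul fun _ _ => rfl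
    obtain ⟨D', hD', hf'⟩ := h2 j M M' f hf (g.restrictScalars A ∘ₗ mk) (by
      intro x y
      obtain ⟨a, ha⟩ := Ideal.Quotient.mk_surjective (π x)
      obtain ⟨b, hb⟩ := Ideal.Quotient.mk_surjective (π y)
      rw [LinearMap.comp_apply, hmul x y a b ha hb, map_add, map_smul, map_smul, ← ha, ← hb]
      rfl)
    have hD1 : D' 1 = 0 := by
      have := hD' 1 1
      have hπ1 : π 1 = 1 := map_one π
      rw [mul_one, hπ1, one_smul] at this
      simpa using this
    have hker : LinearMap.range (Algebra.linearMap A C) ≤ LinearMap.ker D' := by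
      rintro _ ⟨a, rfl⟩
      change D' (algebraMap A C a) = 0
      rw [Algebra.algebraMap_eq_smul_one, map_smul, hD1, smul_zero]
    refine ⟨LinearMap.extendScalarsOfSurjective hsurj (Submodule.liftQ _ D' hker), ?_⟩
    ext n
    obtain ⟨c, rfl⟩ := Submodule.mkQ_surjective _ n
    exact hf' c
  exact exists_retraction_of_projective I π hK hinj

end split

end Groth.Agent.UnramB.SqZeroSplit
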