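import Groth.Agent.CurvesC.ProjMap
import Groth.Agent.VarietyB.FlatH0

/-!
# Field extensions: the maps `q_* q^* M ⟶ M` attached to linear forms `K → k`

For a cartesian square over `Spec K → Spec k` with `X` Noetherian and `M` quasi-coherent,
`K ⊗[k] Γ(M, U) ≃ Γ(q^* M, q⁻¹ U)` for every open `U`.  A `k`-linear form `ψ : K → k` gives
`rho ψ : q_* q^* M ⟶ M`, `c • m ↦ ψ(c) • m`; these are jointly injective.
-/

set_option autoImplicit false
universe u
open CategoryTheory CategoryTheory.Limits AlgebraicGeometry TopologicalSpace Opposite TensorProduct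

namespace Groth.Agent.UnramB.TriRho

open Groth.Agent.CurvesC.Gen Groth.Agent.CurvesC.ProjMap Groth.Agent.VarietyB Groth.Agent.VarietyB.BCAlg

/-- The `k`-module structure on sections. -/
noncomputable abbrev kmod {k : Type u} [CommRing k] {X : Scheme.{u}} (f : X ⟶ Spec (CommRingCat.of k))
    (M : X.Modules) (U : X.Opens) : Module k Γ(M, U) :=
  Module.compHom _ (struct f U)

theorem struct_eq_appLE {k : Type u} [CommRing k] {X : Scheme.{u}} (f : X ⟶ Spec (CommRingCat.of k))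
    (U : X.Opens) (c : k) :
    struct f U c = f.appLE ⊤ U le_top ((Scheme.ΓSpecIso (CommRingCat.of k)).inv c) := rfl

variable {k K : Type u} [Field k] [Field K] [Algebra k K] {X Y : Scheme.{u}}
  {f : X ⟶ Spec (CommRingCat.of k)} {q : Y ⟶ X} {g : Y ⟶ Spec (CommRingCat.of K)}

theorem appLE_struct (w : q ≫ f = g ≫ Spec.map (CommRingCat.ofHom (algebraMap k K))) {U : X.Opens} {V : Y.Opens}
    (e : V ≤ q ⁻¹ᵁ U) (c : k) : q.appLE U V e (struct f U c) = struct g V (algebraMap k K c) := by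
  rw [struct_eq_appLE, struct_eq_appLE, ← CommRingCat.comp_apply, Scheme.Hom.appLE_comp_appLE]
  have h1 : (q ≫ f).appLE ⊤ V le_top = (g ≫ Spec.map (CommRingCat.ofHom (algebraMap k K))).appLE ⊤ V le_top := by
    simp only [w]
  have h2 : (g ≫ Spec.map (CommRingCat.ofHom (algebraMap k K))).appLE ⊤ V le_top =
      (Spec.map (CommRingCat.ofHom (algebraMap k K))).appTop ≫ g.appLE ⊤ V le_top := by
    rw [Scheme.Hom.comp_appLE]
    rfl
  rw [h1, h2, CommRingCat.comp_apply]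
  congr 1
  rw [← CommRingCat.comp_apply, ← Scheme.ΓSpecIso_inv_naturality]
  rfl

/-- The semilinear map `Γ(M, U) → Γ(q^* M, q⁻¹ U)`. -/
noncomputable def secK (w : q ≫ f = g ≫ Spec.map (CommRingCat.ofHom (algebraMap k K))) (M : X.Modules)
    (U : X.Opens) :
    letI := kmod f M U
    letI := kmod g ((Scheme.Modules.pullback q).obj M) (q ⁻¹ᵁ U)
    Γ(M, U) →ₛₗ[algebraMap k K] Γ((Scheme.Modules.pullback q).obj M, q ⁻¹ᵁ U) :=
  letI := kmod f M U
  letI := kmod g ((Scheme.Modules.pullback q).obj M) (q ⁻¹ᵁ U)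
  { toFun := PullSec.sec q M (le_refl (q ⁻¹ᵁ U))
    map_add' := map_add _
    map_smul' := fun a m => by
      refine (PullSec.sec_smul q M _ _ m).trans ?_
      exact congrArg (· • PullSec.sec q M (le_refl (q ⁻¹ᵁ U)) m) (appLE_struct w le_rfl a) }

theorem bijective_bc_secK (H : IsPullback q g f (Spec.map (CommRingCat.ofHom (algebraMap k K))))
    [IsNoetherian X] (M : X.Modules) (hM : Coh.IsQCoh M) (U : X.Opens) :
    letI := kmod f M U
    letI := kmod g ((Scheme.Modules.pullback q).obj M) (q ⁻¹ᵁ U)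
    Function.Bijective (bc (secK H.w M U)) := by
  have hfl : Flat (Spec.map (CommRingCat.ofHom (algebraMap k K))) := by
    rw [HasRingHomProperty.Spec_iff (P := @Flat)]
    change (algebraMap k K).Flat
    rw [RingHom.flat_algebraMap_iff]
    infer_instance
  have hUc : IsCompact (X := X) U := NoetherianSpace.isCompact _
  have hUs : IsQuasiSeparated (α := X) U := fun _ _ _ _ _ _ _ _ => NoetherianSpace.isCompact _
  have hUY : q ⁻¹ᵁ U = q ⁻¹ᵁ U ⊓ g ⁻¹ᵁ ⊤ := by simp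
  have h1 : FlatH0.IsBC H.w M (US := ⊤) (UT := ⊤) le_top (UX := U) le_top (UY := q ⁻¹ᵁ U) le_rfl le_top :=
    FlatH0.isBC_of_isQuasiSeparated H M hM (US := ⊤) (UT := ⊤) le_top (UX := U) le_top hUY le_rfl le_top
      (isAffineOpen_top _) (isAffineOpen_top _) hUc hUs
  let φ := CommRingCat.ofHom (algebraMap k K)
  let j2 := kmod f M U
  let j3 := kmod g ((Scheme.Modules.pullback q).obj M) (q ⁻¹ᵁ U)
  let A := CommRingCat.of k
  let B := CommRingCat.of K
  let i1 : Algebra Γ(Spec A, ⊤) Γ(Spec B, ⊤) := FlatH0.algOver (Spec.map φ) le_top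
  let i3 : Module Γ(Spec A, ⊤) Γ(M, U) := FlatH0.modOver f M le_top
  let i4 : Module Γ(Spec B, ⊤) Γ((Scheme.Modules.pullback q).obj M, q ⁻¹ᵁ U) :=
    FlatH0.modOver g ((Scheme.Modules.pullback q).obj M) le_top
  let i5 : Algebra k Γ(Spec A, ⊤) := (Scheme.ΓSpecIso A).inv.hom.toAlgebra
  let i6 : Algebra K Γ(Spec B, ⊤) := (Scheme.ΓSpecIso B).inv.hom.toAlgebra
  let i7 : Algebra k Γ(Spec B, ⊤) := (φ ≫ (Scheme.ΓSpecIso B).inv).hom.toAlgebra
  have happ : ∀ {Z W : Scheme.{u}} (h : Z ⟶ W), h.appLE ⊤ ⊤ le_top = h.appTop := by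
    intro Z W h
    rw [Scheme.Hom.appLE, Scheme.Hom.appTop]
    exact (congrArg _ (Z.presheaf.map_id _)).trans (Category.comp_id _)
  have i8 : IsScalarTower k K Γ(Spec B, ⊤) := IsScalarTower.of_algebraMap_eq (fun _ => rfl)
  have i9 : IsScalarTower k Γ(Spec A, ⊤) Γ(Spec B, ⊤) := IsScalarTower.of_algebraMap_eq (fun a => by
    change (φ ≫ (Scheme.ΓSpecIso B).inv) a = (Spec.map φ).appLE ⊤ ⊤ le_top ((Scheme.ΓSpecIso A).inv a)
    rw [happ, ← CommRingCat.comp_apply, Scheme.ΓSpecIso_inv_naturality])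
  have hsq : IsPushout (CommRingCat.ofHom (algebraMap k K)) (CommRingCat.ofHom (algebraMap k Γ(Spec A, ⊤)))
      (CommRingCat.ofHom (algebraMap K Γ(Spec B, ⊤)))
      (CommRingCat.ofHom (algebraMap Γ(Spec A, ⊤) Γ(Spec B, ⊤))) := by
    have k1 : IsIso (CommRingCat.ofHom (algebraMap k Γ(Spec A, ⊤))) :=
      inferInstanceAs (IsIso (Scheme.ΓSpecIso A).inv)
    have k2 : IsIso (CommRingCat.ofHom (algebraMap K Γ(Spec B, ⊤))) :=
      inferInstanceAs (IsIso (Scheme.ΓSpecIso B).inv)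
    refine IsPushout.of_vert_isIso ⟨?_⟩
    ext a
    exact IsScalarTower.algebraMap_apply k Γ(Spec A, ⊤) Γ(Spec B, ⊤) a
  have i10 : Algebra.IsPushout k K Γ(Spec A, ⊤) Γ(Spec B, ⊤) :=
    CommRingCat.isPushout_iff_isPushout.mp hsq
  have i11 : IsScalarTower k Γ(Spec A, ⊤) Γ(M, U) := ⟨fun a b c => by
    rw [Algebra.smul_def, mul_smul]
    rfl⟩
  have i12 : IsScalarTower K Γ(Spec B, ⊤) Γ((Scheme.Modules.pullback q).obj M, q ⁻¹ᵁ U) := ⟨fun a b c => by
    rw [Algebra.smul_def, mul_smul]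
    rfl⟩
  exact bc_bijective_of_isPushout (R := k) (R' := K) (A := Γ(Spec A, ⊤)) (C := Γ(Spec B, ⊤))
    (secK H.w M U) (FlatH0.secS H.w M (US := ⊤) (UT := ⊤) le_top (UX := U) le_top (UY := q ⁻¹ᵁ U) le_rfl le_top)
    (fun _ => rfl) h1

section Rho

variable (H : IsPullback q g f (Spec.map (CommRingCat.ofHom (algebraMap k K)))) [IsNoetherian X]
  (M : X.Modules) (hM : Coh.IsQCoh M)

/-- `K ⊗[k] Γ(M, U) ≃ Γ(q^* M, q⁻¹ U)`. -/
noncomputable def bcE (U : X.Opens) :
    letI := kmod f M U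
    K ⊗[k] Γ(M, U) ≃+ Γ((Scheme.Modules.pullback q).obj M, q ⁻¹ᵁ U) :=
  letI := kmod f M U
  letI := kmod g ((Scheme.Modules.pullback q).obj M) (q ⁻¹ᵁ U)
  AddEquiv.ofBijective (bc (secK H.w M U)) (bijective_bc_secK H M hM U)

theorem bcE_tmul (U : X.Opens) (c : K) (m : Γ(M, U)) :
    letI := kmod f M U
    bcE H M hM U (c ⊗ₜ m) = struct g (q ⁻¹ᵁ U) c • PullSec.sec q M (le_refl (q ⁻¹ᵁ U)) m := by
  let i1 := kmod f M U
  let i2 := kmod g ((Scheme.Modules.pullback q).obj M) (q ⁻¹ᵁ U)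
  exact bc_tmul (secK H.w M U) c m

include H hM in
theorem sec_induction {U : X.Opens} {P : Γ((Scheme.Modules.pullback q).obj M, q ⁻¹ᵁ U) → Prop} (h0 : P 0)
    (hadd : ∀ x y, P x → P y → P (x + y))
    (h : ∀ (c : K) (m : Γ(M, U)), P (struct g (q ⁻¹ᵁ U) c • PullSec.sec q M (le_refl (q ⁻¹ᵁ U)) m))
    (z : Γ((Scheme.Modules.pullback q).obj M, q ⁻¹ᵁ U)) : P z := by
  let i1 := kmod f M U
  obtain ⟨t, rfl⟩ := (bcE H M hM U).surjective z
  induction t using TensorProduct.induction_on with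
  | zero => rw [map_zero]; exact h0
  | add x y hx hy => rw [map_add]; exact hadd _ _ hx hy
  | tmul c m => rw [bcE_tmul]; exact h c m

/-- `c ⊗ m ↦ ψ(c) m`. -/
noncomputable def contr (ψ : K →ₗ[k] k) (U : X.Opens) :
    letI := kmod f M U
    K ⊗[k] Γ(M, U) →+ Γ(M, U) :=
  letI := kmod f M U
  ((TensorProduct.lid k Γ(M, U)).toLinearMap ∘ₗ ψ.rTensor Γ(M, U)).toAddMonoidHom

omit [AlgebraicGeometry.IsNoetherian X] in
theorem contr_tmul (ψ : K →ₗ[k] k) (U : X.Opens) (c : K) (m : Γ(M, U)) :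
    letI := kmod f M U
    contr (f := f) M ψ U (c ⊗ₜ m) = struct f U (ψ c) • m := by
  let i1 := kmod f M U
  change (TensorProduct.lid k Γ(M, U)) (ψ.rTensor Γ(M, U) (c ⊗ₜ m)) = _
  rw [LinearMap.rTensor_tmul, TensorProduct.lid_tmul]
  rfl

/-- The value of `rho` on sections. -/
noncomputable def rhoFun (ψ : K →ₗ[k] k) (U : X.Opens) :
    Γ((Scheme.Modules.pullback q).obj M, q ⁻¹ᵁ U) →+ Γ(M, U) :=
  letI := kmod f M U
  (contr (f := f) M ψ U).comp (bcE H M hM U).symm.toAddMonoidHom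

theorem rhoFun_smul_sec (ψ : K →ₗ[k] k) (U : X.Opens) (c : K) (m : Γ(M, U)) :
    rhoFun H M hM ψ U (struct g (q ⁻¹ᵁ U) c • PullSec.sec q M (le_refl (q ⁻¹ᵁ U)) m) =
      struct f U (ψ c) • m := by
  let i1 := kmod f M U
  rw [← bcE_tmul H M hM U c m, ← contr_tmul (f := f) M ψ U c m]
  change contr (f := f) M ψ U ((bcE H M hM U).symm (bcE H M hM U (c ⊗ₜ m))) = _
  rw [AddEquiv.symm_apply_apply]

theorem eq_zero_of_rhoFun (U : X.Opens) (z : Γ((Scheme.Modules.pullback q).obj M, q ⁻¹ᵁ U))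
    (h : ∀ ψ : K →ₗ[k] k, rhoFun H M hM ψ U z = 0) : z = 0 := by
  let i1 := kmod f M U
  obtain ⟨t, rfl⟩ := (bcE H M hM U).surjective z
  have h' : ∀ ψ : K →ₗ[k] k, contr (f := f) M ψ U t = 0 := fun ψ => by
    rw [← h ψ]
    change _ = contr (f := f) M ψ U ((bcE H M hM U).symm (bcE H M hM U t))
    rw [AddEquiv.symm_apply_apply]
  suffices t = 0 by rw [this, map_zero]
  classical
  apply (TensorProduct.equivFinsuppOfBasisLeft (Module.Basis.ofVectorSpace k K)).injective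
  rw [map_zero]
  ext i
  rw [TensorProduct.equivFinsuppOfBasisLeft_apply]
  exact h' _

theorem rhoFun_res (ψ : K →ₗ[k] k) {U V : X.Opens} (hVU : V ≤ U)
    (z : Γ((Scheme.Modules.pullback q).obj M, q ⁻¹ᵁ U)) :
    rhoFun H M hM ψ V (((Scheme.Modules.pullback q).obj M).presheaf.map (homOfLE (q.preimage_mono hVU)).op z) =
      M.presheaf.map (homOfLE hVU).op (rhoFun H M hM ψ U z) := by
  induction z using sec_induction H M hM with
  | h0 => simp only [map_zero]
  | hadd x y hx hy => simp only [map_add, hx, hy]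
  | h c m =>
    rw [rhoFun_smul_sec, map_smul_section, map_smul_section, map_struct, map_struct,
      PullSec.sec_res q M (le_refl (q ⁻¹ᵁ U)) (le_refl (q ⁻¹ᵁ V)) hVU, rhoFun_smul_sec]

theorem rhoFun_smul (ψ : K →ₗ[k] k) {U : X.Opens} (r : Γ(X, U))
    (z : Γ((Scheme.Modules.pullback q).obj M, q ⁻¹ᵁ U)) :
    rhoFun H M hM ψ U (q.app U r • z) = r • rhoFun H M hM ψ U z := by
  induction z using sec_induction H M hM with
  | h0 => simp only [map_zero, smul_zero]
  | hadd x y hx hy => simp only [map_add, smul_add, hx, hy]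
  | h c m =>
    rw [smul_comm, Scheme.Hom.app_eq_appLE, ← PullSec.sec_smul, rhoFun_smul_sec, rhoFun_smul_sec, smul_comm]

/-- `rhoFun` is `K`-semilinear in the form: `ψ(c · )` -/
theorem rhoFun_scalar (ψ : K →ₗ[k] k) {U : X.Opens} (c : K)
    (z : Γ((Scheme.Modules.pullback q).obj M, q ⁻¹ᵁ U)) :
    rhoFun H M hM ψ U (struct g (q ⁻¹ᵁ U) c • z) = rhoFun H M hM (ψ ∘ₗ LinearMap.mulLeft k c) U z := by
  induction z using sec_induction H M hM with
  | h0 => simp only [map_zero, smul_zero]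
  | hadd x y hx hy => simp only [map_add, smul_add, hx, hy]
  | h d m =>
    rw [← mul_smul, ← map_mul, rhoFun_smul_sec, rhoFun_smul_sec]
    rfl

/-- The morphism `q_* q^* M ⟶ M` attached to `ψ`. -/
noncomputable def rho (ψ : K →ₗ[k] k) :
    (Scheme.Modules.pushforward q).obj ((Scheme.Modules.pullback q).obj M) ⟶ M :=
  ⟨PresheafOfModules.homMk
    { app := fun W => AddCommGrpCat.ofHom (rhoFun H M hM ψ W.unop)
      naturality := fun W W₁ i => by
        ext (σ : Γ((Scheme.Modules.pullback q).obj M, q ⁻¹ᵁ W.unop))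
        exact rhoFun_res H M hM ψ (leOfHom i.unop) σ }
    (fun W r σ => rhoFun_smul H M hM ψ r σ)⟩

theorem rho_app (ψ : K →ₗ[k] k) (U : X.Opens) (z : Γ((Scheme.Modules.pullback q).obj M, q ⁻¹ᵁ U)) :
    (rho H M hM ψ).app U z = rhoFun H M hM ψ U z := rfl

end Rho

end Groth.Agent.UnramB.TriRho
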